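import Cfsg.Agent.Lib.RegLift.Orth
import Cfsg.Agent.Lib.Char.Twist
import Cfsg.Agent.Lib.Char.Induced

/-!
# Functions lying over a character of a subgroup

All functions live on an ambient finite group and vanish outside the subgroup they belong to.
-/

set_option autoImplicit false

namespace CfsgLib.RegLift

open Cfsg
open scoped ComplexConjugate

universe u

variable {Γ : Type u} [Group Γ] [Fintype Γ]

/-- `x` has order prime to `p` modulo `K`. -/
def Reg (p : ℕ) (K : Subgroup Γ) (x : Γ) : Prop := ∃ n, 0 < n ∧ ¬ p ∣ n ∧ x ^ n ∈ K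

theorem Reg.mono {p : ℕ} {K M : Subgroup Γ} {x : Γ} (h : Reg p K x) (hKM : K ≤ M) : Reg p M x :=
  let ⟨n, h0, hp, hx⟩ := h
  ⟨n, h0, hp, hKM hx⟩

/-- A class function on `H`, vanishing outside `H`. -/
def ClassOn (H : Subgroup Γ) (f : Γ → ℂ) : Prop :=
  (∀ x, x ∉ H → f x = 0) ∧ ∀ h ∈ H, ∀ x, f (h * x * h⁻¹) = f x

theorem ClassOn.mul_comm' {H : Subgroup Γ} {f : Γ → ℂ} (hf : ClassOn H f) {a : Γ} (ha : a ∈ H)
    (b : Γ) : f (a * b) = f (b * a) := by
  rw [← hf.2 a ha (b * a)]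
  group

theorem ClassOn.mul_comm'' {H : Subgroup Γ} {f : Γ → ℂ} (hf : ClassOn H f) (a : Γ) {b : Γ}
    (hb : b ∈ H) : f (a * b) = f (b * a) := (hf.mul_comm' hb a).symm

/-- An irreducible character of `M`, extended by zero. -/
def IrrOn (M : Subgroup Γ) (ψ : Γ → ℂ) : Prop :=
  (∀ x, x ∉ M → ψ x = 0) ∧ IsIrrCharacter M (fun m : M => ψ m)

theorem isClassFunction_of_irr {M : Subgroup Γ} {ψ : Γ → ℂ} (h : IrrOn M ψ) : ClassOn M ψ := by
  refine ⟨h.1, fun m hm x => ?_⟩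
  by_cases hx : x ∈ M
  · exact Char.IsIrrCharacter.isClassFunction h.2 ⟨x, hx⟩ ⟨m, hm⟩
  · rw [h.1 x hx, h.1]
    intro hc
    exact hx (by simpa [mul_assoc] using M.mul_mem (M.mul_mem (M.inv_mem hm) hc) hm)

theorem IrrOn.one_ne_zero {M : Subgroup Γ} {ψ : Γ → ℂ} (h : IrrOn M ψ) : ψ 1 ≠ 0 := by
  have h1 := Char.IsIrrCharacter.apply_one_ne_zero h.2
  simpa using h1

theorem IrrOn.ext {M : Subgroup Γ} {ψ χ : Γ → ℂ} (hψ : IrrOn M ψ) (hχ : IrrOn M χ)
    (h : ∀ m : M, ψ m = χ m) : ψ = χ := by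
  funext x
  by_cases hx : x ∈ M
  · exact h ⟨x, hx⟩
  · rw [hψ.1 x hx, hχ.1 x hx]

theorem IrrOn.isIntegral {M : Subgroup Γ} {ψ : Γ → ℂ} (h : IrrOn M ψ) (x : Γ) :
    IsIntegral ℤ (ψ x) := by
  by_cases hx : x ∈ M
  · obtain ⟨n, ρ, -, hρ⟩ := h.2
    rw [show ψ x = ρ.character ⟨x, hx⟩ from (congrFun hρ ⟨x, hx⟩).symm]
    exact Char.isIntegral_character ρ _
  · rw [h.1 x hx]; exact isIntegral_zero

theorem IrrOn.extendByZero (M : Subgroup Γ) (χ : IrrCharacter M) :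
    IrrOn M (Cfsg.extendByZero M χ.1) := by
  refine ⟨fun x hx => Char.extendByZero_of_notMem M _ hx, ?_⟩
  rw [show (fun m : M => Cfsg.extendByZero M χ.1 (m : Γ)) = χ.1 from
    funext fun m => Char.extendByZero_coe M _ m]
  exact χ.2

/-- The extension by zero of a character, as an element of `IrrCharacter`. -/
theorem IrrOn.exists_eq {M : Subgroup Γ} {ψ : Γ → ℂ} (h : IrrOn M ψ) :
    ∃ χ : IrrCharacter M, Cfsg.extendByZero M χ.1 = ψ := by
  refine ⟨⟨_, h.2⟩, funext fun x => ?_⟩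
  by_cases hx : x ∈ M
  · exact Char.extendByZero_apply_mem M _ hx
  · rw [Char.extendByZero_of_notMem M _ hx, h.1 x hx]

/-- The projection belonging to `ψ`. -/
noncomputable def proj (M : Subgroup Γ) (ψ f : Γ → ℂ) (x : Γ) : ℂ :=
  letI := Fintype.ofFinite M
  ψ 1 / (Nat.card M : ℂ) * ∑ i : M, ψ (i : Γ)⁻¹ * f ((i : Γ) * x)

/-- `f` lies over `ψ`. -/
def OverOn (M : Subgroup Γ) (ψ f : Γ → ℂ) : Prop := ∀ x, proj M ψ f x = f x

theorem proj_eq (M : Subgroup Γ) [Fintype M] (ψ f : Γ → ℂ) (x : Γ) :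
    proj M ψ f x = ψ 1 / (Nat.card M : ℂ) * ∑ i : M, ψ (i : Γ)⁻¹ * f ((i : Γ) * x) := by
  unfold proj
  congr 1
  exact Finset.sum_congr (by ext; simp) fun _ _ => rfl

theorem sum_subgroup_eq (M : Subgroup Γ) [Fintype M] (F : Γ → ℂ) (hF : ∀ x, x ∉ M → F x = 0) :
    ∑ i : M, F i = ∑ x : Γ, F x := by
  classical
  rw [← Finset.sum_subset (Finset.subset_univ (Finset.univ.filter fun x => x ∈ M))
    (fun x _ hx => hF x (by simpa using hx))]
  exact (Finset.sum_subtype _ (by simp) F).symm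

theorem proj_eq_univ (M : Subgroup Γ) {ψ : Γ → ℂ} (hψ : ∀ x, x ∉ M → ψ x = 0) (f : Γ → ℂ)
    (x : Γ) : proj M ψ f x = ψ 1 / (Nat.card M : ℂ) * ∑ i : Γ, ψ i⁻¹ * f (i * x) := by
  have := Fintype.ofFinite M
  rw [proj_eq, sum_subgroup_eq M (fun i => ψ i⁻¹ * f (i * x))]
  intro i hi
  rw [hψ i⁻¹ (fun h => hi (by simpa using M.inv_mem h)), zero_mul]

theorem sum_irr_mul {M : Subgroup Γ} {ψ χ : Γ → ℂ} (hψ : IrrOn M ψ) (hχ : IrrOn M χ) (x : Γ)
    [Decidable (ψ = χ)] :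
    ∑ g : Γ, ψ g⁻¹ * χ (g * x) = if ψ = χ then (Nat.card M : ℂ) / ψ 1 * χ x else 0 := by
  classical
  have := Fintype.ofFinite M
  by_cases hx : x ∈ M
  · rw [← sum_subgroup_eq M (fun g => ψ g⁻¹ * χ (g * x)) fun g hg => by
      rw [hψ.1 g⁻¹ (fun h => hg (by simpa using M.inv_mem h)), zero_mul]]
    have h := sum_inv_mul_irr hψ.2 hχ.2 ⟨x, hx⟩
    simp only [Subgroup.coe_inv, Subgroup.coe_mul, Subgroup.coe_one] at h
    rw [h]
    by_cases he : ψ = χ
    · rw [if_pos he, if_pos (by rw [he])]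
    · rw [if_neg he, if_neg fun hh => he (hψ.ext hχ (congrFun hh))]
  · rw [Finset.sum_eq_zero fun g _ => ?_, hχ.1 x hx]
    · simp
    by_cases hg : g ∈ M
    · rw [hχ.1 (g * x) (fun h => hx (by simpa using M.mul_mem (M.inv_mem hg) h)), mul_zero]
    · rw [hψ.1 g⁻¹ (fun h => hg (by simpa using M.inv_mem h)), zero_mul]

theorem proj_proj {M : Subgroup Γ} {ψ χ : Γ → ℂ} (hψ : IrrOn M ψ) (hχ : IrrOn M χ) (f : Γ → ℂ)
    (x : Γ) [Decidable (ψ = χ)] :
    proj M ψ (proj M χ f) x = if ψ = χ then proj M ψ f x else 0 := by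
  classical
  simp only [proj_eq_univ M hψ.1, proj_eq_univ M hχ.1, Finset.mul_sum]
  have key : ∀ i : Γ, ∑ j : Γ, ψ 1 / (Nat.card M : ℂ) *
      (ψ i⁻¹ * (χ 1 / (Nat.card M : ℂ) * (χ j⁻¹ * f (j * (i * x))))) =
      ∑ l : Γ, ψ 1 / (Nat.card M : ℂ) * (χ 1 / (Nat.card M : ℂ)) * f (l * x) *
        (ψ i⁻¹ * χ (i * l⁻¹)) := fun i => by
    refine Fintype.sum_equiv (Equiv.mulRight i) _ _ fun j => ?_
    simp only [Equiv.coe_mulRight, mul_inv_rev, mul_inv_cancel_left, mul_assoc]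
    ring
  rw [Finset.sum_congr rfl fun i _ => key i, Finset.sum_comm]
  simp only [← Finset.mul_sum, sum_irr_mul hψ hχ]
  split_ifs with h
  · subst h
    rw [Finset.mul_sum]
    refine Finset.sum_congr rfl fun l _ => ?_
    have h0 : (Nat.card M : ℂ) ≠ 0 := Nat.cast_ne_zero.2 Nat.card_pos.ne'
    have h1 := hψ.one_ne_zero
    field_simp
  · simp

theorem proj_add (M : Subgroup Γ) (ψ f g : Γ → ℂ) (x : Γ) :
    proj M ψ (f + g) x = proj M ψ f x + proj M ψ g x := by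
  have := Fintype.ofFinite M
  simp only [proj_eq, Pi.add_apply, mul_add, Finset.sum_add_distrib]

theorem proj_translate (M : Subgroup Γ) (ψ f : Γ → ℂ) (c x : Γ) :
    proj M ψ (fun y => f (y * c)) x = proj M ψ f (x * c) := by
  have := Fintype.ofFinite M
  simp only [proj_eq, mul_assoc]

theorem proj_self {M : Subgroup Γ} {ψ : Γ → ℂ} (hψ : IrrOn M ψ) : OverOn M ψ ψ := fun x => by
  classical
  rw [proj_eq_univ M hψ.1, sum_irr_mul hψ hψ, if_pos rfl]
  have h0 : (Nat.card M : ℂ) ≠ 0 := Nat.cast_ne_zero.2 Nat.card_pos.ne'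
  have h1 := hψ.one_ne_zero
  field_simp

theorem OverOn.proj_proj {M : Subgroup Γ} {ψ : Γ → ℂ} (hψ : IrrOn M ψ) (f : Γ → ℂ) :
    OverOn M ψ (proj M ψ f) := fun x => by
  classical
  rw [RegLift.proj_proj hψ hψ, if_pos rfl]

/-- A function over `θ` is recovered from its values on a coset, with `θ` on the right. -/
theorem OverOn.right {K : Subgroup Γ} [Fintype K] {θ f : Γ → ℂ} (hθ : ClassOn K θ)
    (hf : OverOn K θ f) {k : Γ} (hk : k ∈ K) (w : Γ) :
    θ 1 / (Nat.card K : ℂ) * ∑ j : K, f ((j : Γ) * w) * θ ((j : Γ)⁻¹ * k) = f (k * w) := by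
  rw [← hf (k * w), proj_eq]
  congr 1
  refine Fintype.sum_equiv (Equiv.mulRight (⟨k, hk⟩ : K)⁻¹) _ _ fun j => ?_
  simp only [Equiv.coe_mulRight, Subgroup.coe_mul, Subgroup.coe_inv, mul_inv_rev, inv_inv]
  rw [← hθ.mul_comm'' _ hk, mul_comm]
  group

/-- Normality of `K` inside `M`, in terms of elements. -/
def Normalizes (M K : Subgroup Γ) : Prop := ∀ m ∈ M, ∀ k ∈ K, m * k * m⁻¹ ∈ K

/-- The irreducible characters of `M` over `θ`. -/
abbrev Over (M K : Subgroup Γ) (θ : Γ → ℂ) : Type u :=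
  {χ : IrrCharacter M // OverOn K θ (Cfsg.extendByZero M χ.1)}

/-- The function attached to an element of `Over`. -/
noncomputable abbrev Over.fn {M K : Subgroup Γ} {θ : Γ → ℂ} (χ : Over M K θ) : Γ → ℂ :=
  Cfsg.extendByZero M χ.1.1

theorem Over.overOn {M K : Subgroup Γ} {θ : Γ → ℂ} (χ : Over M K θ) : OverOn K θ χ.fn := χ.2

theorem Over.irrOn {M K : Subgroup Γ} {θ : Γ → ℂ} (χ : Over M K θ) : IrrOn M χ.fn :=
  IrrOn.extendByZero M χ.1

theorem Over.fn_injective {M K : Subgroup Γ} {θ : Γ → ℂ} :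
    Function.Injective (Over.fn : Over M K θ → Γ → ℂ) := fun χ χ' h =>
  Subtype.ext (Subtype.ext (funext fun m => by
    have := congrFun h (m : Γ)
    rwa [Over.fn, Over.fn, Char.extendByZero_coe, Char.extendByZero_coe] at this))

section Decompose

variable {M K : Subgroup Γ} {θ : Γ → ℂ} (hθ : IrrOn K θ) (hKM : K ≤ M) (hθM : ClassOn M θ)
include hθ hKM hθM

theorem proj_irr_dichotomy {ψ : Γ → ℂ} (hψ : IrrOn M ψ) :
    OverOn K θ ψ ∨ ∀ x, proj K θ ψ x = 0 := by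
  classical
  have := Fintype.ofFinite M
  obtain ⟨n, ρ, hρ, hρc⟩ := hψ.2
  haveI := hρ
  have hcl : IsClassFunction M (fun m : M => θ (m : Γ)⁻¹) := fun a b => by
    have h2 := hθM.2 (b : Γ) b.2 (a : Γ)⁻¹
    simp only [Subgroup.coe_mul, Subgroup.coe_inv]
    rw [← h2]
    group
  have hop := Char.opOfFun_irreducible ρ hcl
  set c : ℂ := θ 1 / (Nat.card K : ℂ) *
    ((∑ m : M, θ (m : Γ)⁻¹ * ρ.character m) / (Module.finrank ℂ (Fin n → ℂ) : ℂ))
  have hc : ∀ x, proj K θ ψ x = c * ψ x := by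
    intro x
    rw [proj_eq_univ K hθ.1]
    by_cases hx : x ∈ M
    · have h1 := congrArg (fun T => LinearMap.trace ℂ (Fin n → ℂ) (T * ρ ⟨x, hx⟩)) hop
      simp only [Char.opOfFun, Finset.sum_mul, smul_mul_assoc, ← map_mul, map_sum, map_smul,
        smul_eq_mul] at h1
      rw [show (LinearMap.id : Module.End ℂ (Fin n → ℂ)) * ρ ⟨x, hx⟩ = ρ ⟨x, hx⟩ from
        one_mul _] at h1
      rw [← sum_subgroup_eq M (fun i => θ i⁻¹ * ψ (i * x)) fun i hi => by
        rw [hθ.1 i⁻¹ (fun h => hi (by simpa using M.inv_mem (hKM h))), zero_mul]]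
      have h2 : ∀ m : M, ψ m = LinearMap.trace ℂ (Fin n → ℂ) (ρ m) := fun m =>
        (congrFun hρc m).symm
      rw [show ψ x = ψ ((⟨x, hx⟩ : M) : Γ) from rfl, h2, mul_assoc, ← h1]
      congr 1
      refine Finset.sum_congr rfl fun m _ => ?_
      rw [← h2]
      rfl
    · rw [hψ.1 x hx, mul_zero, Finset.sum_eq_zero fun i _ => ?_, mul_zero]
      by_cases hi : i ∈ K
      · rw [hψ.1 (i * x) fun h => hx (by simpa using M.mul_mem (M.inv_mem (hKM hi)) h), mul_zero]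
      · rw [hθ.1 i⁻¹ (fun h => hi (by simpa using K.inv_mem h)), zero_mul]
  have hcc : c * c = c := by
    have h1 := proj_proj hθ hθ ψ 1
    rw [if_pos rfl] at h1
    have h2 : proj K θ (proj K θ ψ) 1 = c * proj K θ ψ 1 := by
      rw [show proj K θ ψ = fun x => c * ψ x from funext hc]
      have h3 := hc 1
      simp only [proj_eq_univ K hθ.1, Finset.mul_sum] at h3 ⊢
      rw [← h3, Finset.mul_sum]
      exact Finset.sum_congr rfl fun i _ => by ring
    rw [h2, hc, ← mul_assoc] at h1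
    exact mul_right_cancel₀ hψ.one_ne_zero h1
  rcases eq_or_ne c 0 with h | h
  · exact Or.inr fun x => by rw [hc, h, zero_mul]
  · refine Or.inl fun x => ?_
    rw [hc, mul_right_cancel₀ h (hcc.trans (one_mul c).symm), one_mul]

open Classical in
theorem sum_over_eq [Fintype (Over M K θ)] (m : Γ) :
    ∑ χ : Over M K θ, χ.fn 1 * χ.fn m = (Nat.card M : ℂ) * θ 1 / (Nat.card K : ℂ) * θ m := by
  classical
  have := Fintype.ofFinite M
  let f : IrrCharacter M → Γ → ℂ := fun χ => Cfsg.extendByZero M χ.1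
  have hreg : ∀ z : Γ, ∑ χ : IrrCharacter M, f χ 1 * f χ z =
      if z = 1 then (Nat.card M : ℂ) else 0 := by
    intro z
    by_cases hz : z ∈ M
    · have h := Char.sum_apply_one_mul (⟨z, hz⟩ : M)
      refine (Finset.sum_congr rfl fun χ _ => ?_).trans
        (h.trans (if_congr ?_ rfl rfl))
      · show Cfsg.extendByZero M χ.1 ((1 : M) : Γ) * Cfsg.extendByZero M χ.1
          ((⟨z, hz⟩ : M) : Γ) = _
        rw [Char.extendByZero_coe, Char.extendByZero_coe]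
      · rw [← Subtype.coe_inj]; rfl
    · rw [if_neg (fun h : z = 1 => hz (h ▸ M.one_mem))]
      exact Finset.sum_eq_zero fun χ _ => by
        simp only [f, Char.extendByZero_of_notMem M _ hz, mul_zero]
  have h1 : ∑ χ : IrrCharacter M, f χ 1 * proj K θ (f χ) m =
      θ 1 / (Nat.card K : ℂ) * ∑ i : Γ, θ i⁻¹ *
        (if i * m = 1 then (Nat.card M : ℂ) else 0) := by
    simp only [proj_eq_univ K hθ.1, ← hreg, Finset.mul_sum]
    rw [Finset.sum_comm]
    exact Finset.sum_congr rfl fun i _ => Finset.sum_congr rfl fun χ _ => by ring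
  have h2 : ∀ χ : IrrCharacter M, f χ 1 * proj K θ (f χ) m =
      if OverOn K θ (f χ) then f χ 1 * f χ m else 0 := by
    intro χ
    split_ifs with h
    · rw [h m]
    · rw [(proj_irr_dichotomy hθ hKM hθM (IrrOn.extendByZero M χ)).resolve_left h m, mul_zero]
  rw [Finset.sum_congr rfl fun χ _ => h2 χ, ← Finset.sum_filter] at h1
  rw [← Finset.sum_subtype (Finset.univ.filter fun χ : IrrCharacter M => OverOn K θ (f χ))
    (fun χ => by simp [f]) (fun χ : IrrCharacter M => f χ 1 * f χ m), h1,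
    Finset.sum_eq_single m⁻¹]
  · rw [inv_inv, inv_mul_cancel, if_pos rfl]
    ring
  · intro i _ hi
    rw [if_neg fun h => hi (eq_inv_of_mul_eq_one_left h), mul_zero]
  · simp

theorem sum_proj_eq [Fintype (Over M K θ)] {f : Γ → ℂ} (hf : OverOn K θ f) (x : Γ) :
    ∑ χ : Over M K θ, proj M χ.fn f x = f x := by
  classical
  conv_rhs => rw [← hf x, proj_eq_univ K hθ.1]
  simp only [proj_eq_univ M (IrrOn.extendByZero M _).1, Finset.mul_sum]
  rw [Finset.sum_comm]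
  refine Finset.sum_congr rfl fun i _ => ?_
  have h := sum_over_eq hθ hKM hθM i⁻¹
  have h0 : (Nat.card M : ℂ) ≠ 0 := Nat.cast_ne_zero.2 Nat.card_pos.ne'
  calc ∑ χ : Over M K θ, χ.fn 1 / (Nat.card M : ℂ) * (χ.fn i⁻¹ * f (i * x))
      = (∑ χ : Over M K θ, χ.fn 1 * χ.fn i⁻¹) * ((Nat.card M : ℂ)⁻¹ * f (i * x)) := by
        rw [Finset.sum_mul]
        exact Finset.sum_congr rfl fun χ _ => by ring
    _ = _ := by
        rw [h]
        field_simp

end Decompose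

/-- If `ψ` lies over `θ`, so does every function over `ψ`. -/
theorem OverOn.trans {M K : Subgroup Γ} {ψ θ f : Γ → ℂ} (hψ : IrrOn M ψ) (hθ : IrrOn K θ)
    (hψθ : OverOn K θ ψ) (hf : OverOn M ψ f) : OverOn K θ f := by
  intro x
  have hf' : f = proj M ψ f := funext fun y => (hf y).symm
  rw [hf', proj_eq_univ K hθ.1]
  simp only [proj_eq_univ M hψ.1, Finset.mul_sum]
  have key : ∀ i : Γ, ∑ j : Γ, θ 1 / (Nat.card K : ℂ) *
      (θ i⁻¹ * (ψ 1 / (Nat.card M : ℂ) * (ψ j⁻¹ * f (j * (i * x))))) =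
      ∑ l : Γ, ψ 1 / (Nat.card M : ℂ) * f (l * x) *
        (θ 1 / (Nat.card K : ℂ) * (θ i⁻¹ * ψ (i * l⁻¹))) := fun i => by
    refine Fintype.sum_equiv (Equiv.mulRight i) _ _ fun j => ?_
    simp only [Equiv.coe_mulRight, mul_inv_rev, mul_inv_cancel_left, mul_assoc]
    ring
  rw [Finset.sum_congr rfl fun i _ => key i, Finset.sum_comm]
  refine Finset.sum_congr rfl fun l _ => ?_
  simp only [← Finset.mul_sum]
  rw [← proj_eq_univ K hθ.1, hψθ]
  ring

/-- Irreducible on `K` inside a character of a larger group. -/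
theorem sum_conj_irrOn {H K : Subgroup Γ} [Fintype K] {η : Γ → ℂ} (hη : IrrOn H η) (hKH : K ≤ H)
    (hres : IsIrrCharacter K (fun k : K => η k)) {a b : Γ} (ha : a ∈ H) (hb : b ∈ H) :
    η 1 * ∑ k : K, η (a * ((k : Γ) * b * (k : Γ)⁻¹)) = (Nat.card K : ℂ) * η a * η b := by
  classical
  have := Fintype.ofFinite H
  let e : K.subgroupOf H ≃* K := Subgroup.subgroupOfEquivOfLe hKH
  have hres' : IsIrrCharacter (K.subgroupOf H)
      (fun k : K.subgroupOf H => η ((k : H) : Γ)) :=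
    CharTwist.isIrrCharacter_comp_equiv hres e
  have h := sum_conj_res (K.subgroupOf H) hη.2 hres' ⟨a, ha⟩ ⟨b, hb⟩
  simp only [Subgroup.coe_one, Subgroup.coe_mul, Subgroup.coe_inv,
    Nat.card_congr e.toEquiv] at h
  rw [← h]
  congr 1
  exact (Fintype.sum_equiv e.toEquiv _ _ fun k => rfl).symm

theorem sum_split_irrOn {H K : Subgroup Γ} [Fintype K] {η : Γ → ℂ} (hη : IrrOn H η) (hKH : K ≤ H)
    (hres : IsIrrCharacter K (fun k : K => η k)) {a b : Γ} (ha : a ∈ H) (hb : b ∈ H) :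
    η 1 * ∑ k : K, η (a * (k : Γ)) * η ((k : Γ)⁻¹ * b) = (Nat.card K : ℂ) * η (a * b) := by
  classical
  have := Fintype.ofFinite H
  let e : K.subgroupOf H ≃* K := Subgroup.subgroupOfEquivOfLe hKH
  have hres' : IsIrrCharacter (K.subgroupOf H)
      (fun k : K.subgroupOf H => η ((k : H) : Γ)) :=
    CharTwist.isIrrCharacter_comp_equiv hres e
  have h := sum_split_res (K.subgroupOf H) hη.2 hres' ⟨a, ha⟩ ⟨b, hb⟩
  simp only [Subgroup.coe_one, Subgroup.coe_mul, Subgroup.coe_inv,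
    Nat.card_congr e.toEquiv] at h
  rw [← h]
  congr 1
  exact (Fintype.sum_equiv e.toEquiv _ _ fun k => rfl).symm

/-- Values of a function over `θ` on a coset are proportional to those of an extension. -/
theorem over_coset {H K : Subgroup Γ} [Fintype K] {θ η D : Γ → ℂ} {g : Γ} (hθ : IrrOn K θ)
    (hη : IrrOn H η) (hKH : K ≤ H) (hext : ∀ k : K, η k = θ k) (hKg : ∀ k ∈ K, g * k * g⁻¹ ∈ K)
    (hg : g ∈ H) (hD : ∀ u ∈ K, ∀ x, D (u * x * u⁻¹) = D x) (hDθ : OverOn K θ D)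
    {k : Γ} (hk : k ∈ K) :
    D (k * g) = ((Nat.card K : ℂ)⁻¹ * ∑ j : K, D ((j : Γ) * g) * η ((j : Γ) * g)⁻¹) *
      η (k * g) := by
  have hres : IsIrrCharacter K (fun k : K => η k) := by
    rw [show (fun k : K => η k) = fun k : K => θ k from funext hext]
    exact hθ.2
  have hθ1 : θ 1 = η 1 := (hext 1).symm
  have h0 : (Nat.card K : ℂ) ≠ 0 := Nat.cast_ne_zero.2 Nat.card_pos.ne'
  have havg : ∀ u : K, D (k * g) = η 1 / (Nat.card K : ℂ) *
      ∑ j : K, D ((j : Γ) * g) * η (((j : Γ) * g)⁻¹ * ((u : Γ) * (k * g) * (u : Γ)⁻¹)) := by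
    intro u
    rw [← hD u u.2 (k * g)]
    have hmem : (u : Γ) * k * (g * (u : Γ)⁻¹ * g⁻¹) ∈ K :=
      K.mul_mem (K.mul_mem u.2 hk) (hKg _ (K.inv_mem u.2))
    have he : (u : Γ) * (k * g) * (u : Γ)⁻¹ = (u : Γ) * k * (g * (u : Γ)⁻¹ * g⁻¹) * g := by group
    rw [he, ← hDθ.right (isClassFunction_of_irr hθ) hmem g, hθ1]
    congr 1
    refine Finset.sum_congr rfl fun j _ => ?_
    congr 1
    rw [← hext ⟨_, K.mul_mem (K.inv_mem j.2) hmem⟩]
    show η _ = η _
    rw [mul_inv_rev, mul_assoc g⁻¹ (j : Γ)⁻¹, ← (isClassFunction_of_irr hη).mul_comm''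
      ((j : Γ)⁻¹ * ((u : Γ) * k * (g * (u : Γ)⁻¹ * g⁻¹) * g)) (H.inv_mem hg)]
    group
  have hsum : (Nat.card K : ℂ) * D (k * g) =
      ∑ j : K, D ((j : Γ) * g) * (η ((j : Γ) * g)⁻¹ * η (k * g)) := by
    calc (Nat.card K : ℂ) * D (k * g) = ∑ _u : K, D (k * g) := by
          rw [Finset.sum_const, Finset.card_univ, Nat.card_eq_fintype_card, nsmul_eq_mul]
      _ = ∑ j : K, η 1 / (Nat.card K : ℂ) * D ((j : Γ) * g) *
            ∑ u : K, η (((j : Γ) * g)⁻¹ * ((u : Γ) * (k * g) * (u : Γ)⁻¹)) := by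
          rw [Finset.sum_congr rfl fun u _ => havg u]
          simp only [Finset.mul_sum, mul_assoc]
          exact Finset.sum_comm
      _ = _ := by
          refine Finset.sum_congr rfl fun j _ => ?_
          have h := sum_conj_irrOn hη hKH hres (H.inv_mem (H.mul_mem (hKH j.2) hg))
            (H.mul_mem (hKH hk) hg)
          calc η 1 / (Nat.card K : ℂ) * D ((j : Γ) * g) *
                ∑ u : K, η (((j : Γ) * g)⁻¹ * ((u : Γ) * (k * g) * (u : Γ)⁻¹))
              = D ((j : Γ) * g) * (Nat.card K : ℂ)⁻¹ *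
                (η 1 * ∑ u : K, η (((j : Γ) * g)⁻¹ * ((u : Γ) * (k * g) * (u : Γ)⁻¹))) := by ring
            _ = _ := by rw [h]; field_simp
  rw [mul_assoc, Finset.sum_mul, ← mul_left_inj' h0, mul_comm (D _), hsum]
  rw [mul_comm (_ * _) (Nat.card K : ℂ), ← mul_assoc, mul_inv_cancel₀ h0, one_mul]
  exact Finset.sum_congr rfl fun j _ => by ring

/-- A function over `θ` invariant under conjugation by `K` is a multiple of `θ` on `K`. -/
theorem over_self {K : Subgroup Γ} [Fintype K] {θ D : Γ → ℂ} (hθ : IrrOn K θ)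
    (hD : ∀ u ∈ K, ∀ x, D (u * x * u⁻¹) = D x) (hDθ : OverOn K θ D) {k : Γ} (hk : k ∈ K) :
    D k = ((Nat.card K : ℂ)⁻¹ * ∑ j : K, D j * θ (j : Γ)⁻¹) * θ k := by
  have h := over_coset (g := 1) hθ hθ le_rfl (fun _ => rfl) (fun k hk => by simpa using hk)
    K.one_mem hD hDθ hk
  simpa using h

end CfsgLib.RegLift
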