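import Cfsg.Agent.Lib.RegLift.Basic

/-!
# Lifting sets across a factor of order prime to `p`

`Full` says that prescribed operators with integral traces are afforded by one integral element
of the group algebra; `Detect` says that a function supported on elements regular modulo `K` is
determined by its products with the family.
-/

set_option autoImplicit false

namespace CfsgLib.RegLift

open Cfsg

universe u v

variable {Γ : Type u} [Group Γ] [Fintype Γ]

/-- Any family of operators with integral traces is realised by one integral element. -/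
def Full (R : Subring ℂ) (H : Subgroup Γ) {ι : Type v} (l : ι → Γ → ℂ) : Prop :=
  ∀ x : ι → Γ → ℂ, (∀ i, ∀ h ∈ H, ∑ g, x i g * l i (g * h) ∈ R) →
    ∃ y : Γ → ℂ, (∀ g, y g ∈ R) ∧ (∀ g, g ∉ H → y g = 0) ∧
      ∀ i, ∀ h ∈ H, ∑ g, y g * l i (g * h) = ∑ g, x i g * l i (g * h)

/-- Functions over `θ` supported on elements regular modulo `K` are determined by the family. -/
def Detect (p : ℕ) (H K : Subgroup Γ) (θ : Γ → ℂ) {ι : Type v} (l : ι → Γ → ℂ) : Prop :=
  ∀ D : Γ → ℂ, ClassOn H D → OverOn K θ D → (∀ x, D x ≠ 0 → Reg p K x) →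
    (∀ i, ∑ x, D x * l i x⁻¹ = 0) → D = 0

/-- A formal sum as a function on the group. -/
noncomputable def push {ι : Type v} [Fintype ι] (g : ι → Γ) (c : ι → ℂ) (x : Γ) : ℂ :=
  open Classical in ∑ i, if g i = x then c i else 0

theorem sum_push {ι : Type v} [Fintype ι] (g : ι → Γ) (c : ι → ℂ) (f : Γ → ℂ) :
    ∑ x, push g c x * f x = ∑ i, c i * f (g i) := by
  classical
  simp only [push, Finset.sum_mul, ite_mul, zero_mul]
  rw [Finset.sum_comm]
  simp

omit [Fintype Γ] in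
theorem push_mem {ι : Type v} [Fintype ι] (g : ι → Γ) (c : ι → ℂ) (R : Subring ℂ)
    (hc : ∀ i, c i ∈ R) (x : Γ) : push g c x ∈ R := by
  classical
  refine R.sum_mem fun i _ => ?_
  split_ifs
  · exact hc i
  · exact R.zero_mem

omit [Fintype Γ] in
theorem push_eq_zero {ι : Type v} [Fintype ι] (g : ι → Γ) (c : ι → ℂ) (H : Subgroup Γ)
    (hc : ∀ i, g i ∈ H ∨ c i = 0) (x : Γ) (hx : x ∉ H) : push g c x = 0 := by
  classical
  refine Finset.sum_eq_zero fun i _ => ?_
  split_ifs with h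
  · exact (hc i).resolve_left fun h' => hx (h ▸ h')
  · rfl

theorem irr_orth_translate {M : Subgroup Γ} {ψ χ : Γ → ℂ} (hψ : IrrOn M ψ) (hχ : IrrOn M χ)
    {h : Γ} (hh : h ∈ M) (g : Γ) [Decidable (ψ = χ)] :
    ∑ m : Γ, χ (h * m) * ψ (g * m⁻¹) =
      if ψ = χ then (Nat.card M : ℂ) / ψ 1 * χ (g * h) else 0 := by
  rw [← sum_irr_mul hψ hχ (g * h)]
  refine Fintype.sum_equiv (Equiv.mulRight g⁻¹) _ _ fun m => ?_
  simp only [Equiv.coe_mulRight]
  rw [mul_comm, mul_inv_rev, inv_inv, (isClassFunction_of_irr hχ).mul_comm' hh,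
    show m * g⁻¹ * (g * h) = m * h by group]

theorem decomp_sum (M K : Subgroup Γ) (hKM : K ≤ M) [Fintype M] [Fintype K]
    [Fintype (M ⧸ K.subgroupOf M)] (F : Γ → ℂ) :
    ∑ i : M, F i = ∑ q : M ⧸ K.subgroupOf M, ∑ k : K, F ((q.out : M) * (k : Γ)) := by
  classical
  have := Fintype.ofFinite (K.subgroupOf M)
  rw [← Fintype.sum_prod_type' (f := fun (q : M ⧸ K.subgroupOf M) (k : K) =>
    F ((q.out : M) * (k : Γ)))]
  have hmk : ∀ (q : M ⧸ K.subgroupOf M) (a : M), a ∈ K.subgroupOf M →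
      ((q.out * a : M) : M ⧸ K.subgroupOf M) = q := fun q a ha => by
    rw [QuotientGroup.mk_mul_of_mem q.out ha, QuotientGroup.out_eq']
  symm
  refine Finset.sum_bij (fun i _ => i.1.out * ⟨(i.2 : Γ), hKM i.2.2⟩) (fun _ _ => Finset.mem_univ _)
    ?_ ?_ (fun i _ => rfl)
  · rintro ⟨q, k⟩ _ ⟨q', k'⟩ _ h
    have hq : q = q' := by
      rw [← hmk q ⟨(k : Γ), hKM k.2⟩ k.2, ← hmk q' ⟨(k' : Γ), hKM k'.2⟩ k'.2]
      exact congrArg _ h
    subst hq
    have h' := congrArg Subtype.val (mul_left_cancel h)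
    exact Prod.ext rfl (Subtype.ext h')
  · intro m _
    have h : (m : M ⧸ K.subgroupOf M).out⁻¹ * m ∈ K.subgroupOf M :=
      QuotientGroup.eq.1 (QuotientGroup.out_eq' (m : M ⧸ K.subgroupOf M))
    exact ⟨((m : M ⧸ K.subgroupOf M), ⟨_, h⟩), Finset.mem_univ _, Subtype.ext (by simp)⟩

/-- Fullness of `θ` gives fullness of the whole set of characters over it. -/
theorem full_over {R : Subring ℂ} (hint : ∀ z : ℂ, IsIntegral ℤ z → z ∈ R)
    {M K : Subgroup Γ} {θ : Γ → ℂ} [Fintype (Over M K θ)] (hθ : IrrOn K θ) (hKM : K ≤ M)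
    (hF : Full R K fun _ : PUnit.{v + 1} => θ)
    (hinv : (θ 1)⁻¹ ∈ R) (hidx : ((K.relIndex M : ℕ) : ℂ)⁻¹ ∈ R) :
    Full R M fun χ : Over M K θ => χ.fn := by
  classical
  intro x hx
  have := Fintype.ofFinite M
  have := Fintype.ofFinite K
  have := Fintype.ofFinite (M ⧸ K.subgroupOf M)
  have hθc := isClassFunction_of_irr hθ
  have hirr : ∀ χ : Over M K θ, IrrOn M χ.fn := fun χ => IrrOn.extendByZero M χ.1
  let t : M ⧸ K.subgroupOf M → Γ := fun q => ((q.out : M) : Γ)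
  have htM : ∀ q, t q ∈ M := fun q => (q.out : M).2
  let I : ℂ := ((K.relIndex M : ℕ) : ℂ)
  have hcard : (Nat.card M : ℂ) = I * (Nat.card K : ℂ) := by
    rw [← Nat.cast_mul, ← Subgroup.card_mul_index (K.subgroupOf M),
      Nat.card_congr (Subgroup.subgroupOfEquivOfLe hKM).toEquiv, Subgroup.relIndex, mul_comm]
  let Φ : M ⧸ K.subgroupOf M → Γ → ℂ := fun q k =>
    I⁻¹ * (θ 1)⁻¹ * ∑ χ : Over M K θ, χ.fn 1 * ∑ g, x χ g * χ.fn (g * (k * (t q)⁻¹))
  have hΦR : ∀ q, ∀ k ∈ K, Φ q k ∈ R := fun q k hk =>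
    R.mul_mem (R.mul_mem hidx hinv) (R.sum_mem fun χ _ =>
      R.mul_mem (hint _ ((hirr χ).isIntegral 1)) (hx χ _ (M.mul_mem (hKM hk) (M.inv_mem (htM q)))))
  let x' : M ⧸ K.subgroupOf M → Γ → ℂ := fun q g =>
    if g ∈ K then θ 1 / (Nat.card K : ℂ) * Φ q g⁻¹ else 0
  have hx' : ∀ q, ∀ k ∈ K, ∑ g, x' q g * θ (g * k) = Φ q k := by
    intro q k hk
    rw [← sum_subgroup_eq K (fun g => x' q g * θ (g * k)) fun g hg => by simp [x', if_neg hg],
      ← Fintype.sum_equiv (Equiv.inv K) _ _ (fun _ => rfl)]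
    simp only [Equiv.inv_apply, Subgroup.coe_inv, x', inv_mem_iff, SetLike.coe_mem, if_true,
      inv_inv, Φ, Finset.mul_sum, Finset.sum_mul]
    rw [Finset.sum_comm]
    refine Finset.sum_congr rfl fun χ _ => ?_
    rw [Finset.sum_comm]
    refine Finset.sum_congr rfl fun g _ => ?_
    rw [(isClassFunction_of_irr (hirr χ)).mul_comm'' g (M.mul_mem (hKM hk) (M.inv_mem (htM q))),
      mul_assoc k, ← χ.overOn.right hθc hk ((t q)⁻¹ * g), Finset.mul_sum, Finset.mul_sum, Finset.mul_sum,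
      Finset.mul_sum]
    refine Finset.sum_congr rfl fun j _ => ?_
    rw [(isClassFunction_of_irr (hirr χ)).mul_comm'' g (M.mul_mem (hKM j.2) (M.inv_mem (htM q))),
      mul_assoc (j : Γ)]
    ring
  choose y hyR hy0 hy using fun q => hF (fun _ => x' q) fun _ k hk => by
    rw [hx' q k hk]
    exact hΦR q k hk
  refine ⟨push (fun i : (M ⧸ K.subgroupOf M) × Γ => t i.1 * i.2) (fun i => y i.1 i.2),
    push_mem _ _ R fun i => hyR i.1 i.2, push_eq_zero _ _ M fun i => ?_, fun χ₀ h hh => ?_⟩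
  · by_cases hi : i.2 ∈ K
    · exact Or.inl (M.mul_mem (htM i.1) (hKM hi))
    · exact Or.inr (hy0 i.1 i.2 hi)
  rw [sum_push, Fintype.sum_prod_type]
  simp only
  have hcl := isClassFunction_of_irr (hirr χ₀)
  have hinner : ∀ q, ∑ g, y q g * χ₀.fn (t q * g * h) =
      ∑ j : K, I⁻¹ / (Nat.card K : ℂ) * ∑ χ : Over M K θ, χ.fn 1 *
        ∑ g, x χ g * (χ₀.fn (h * (t q * (j : Γ))) * χ.fn (g * (t q * (j : Γ))⁻¹)) := by
    intro q
    have e : ∀ g, y q g * χ₀.fn (t q * g * h) =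
        ∑ j : K, θ 1 / (Nat.card K : ℂ) * χ₀.fn (h * (t q * (j : Γ))) *
          (y q g * θ (g * (j : Γ)⁻¹)) := by
      intro g
      by_cases hg : g ∈ K
      · rw [mul_assoc (t q), hcl.mul_comm' (htM q), mul_assoc g, ← χ₀.overOn.right hθc hg (h * t q),
          Finset.mul_sum, Finset.mul_sum]
        refine Finset.sum_congr rfl fun j _ => ?_
        rw [← hcl.mul_comm'' (h * t q) (hKM j.2), mul_assoc h,
          hθc.mul_comm' (K.inv_mem j.2) g]
        ring
      · simp [hy0 q g hg]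
    rw [Finset.sum_congr rfl fun g _ => e g, Finset.sum_comm]
    refine Finset.sum_congr rfl fun j _ => ?_
    rw [← Finset.mul_sum, hy q PUnit.unit _ (K.inv_mem j.2), hx' q _ (K.inv_mem j.2)]
    simp only [Φ, Finset.mul_sum, mul_inv_rev]
    refine Finset.sum_congr rfl fun χ _ => Finset.sum_congr rfl fun g _ => ?_
    have h1 := hθ.one_ne_zero
    field_simp
  rw [Finset.sum_congr rfl fun q _ => hinner q,
    ← decomp_sum M K hKM (fun m => I⁻¹ / (Nat.card K : ℂ) * ∑ χ : Over M K θ, χ.fn 1 *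
      ∑ g, x χ g * (χ₀.fn (h * m) * χ.fn (g * m⁻¹))),
    sum_subgroup_eq M (fun m => I⁻¹ / (Nat.card K : ℂ) * ∑ χ : Over M K θ, χ.fn 1 *
      ∑ g, x χ g * (χ₀.fn (h * m) * χ.fn (g * m⁻¹))) fun m hm => by
      simp [(hirr χ₀).1 (h * m) fun h' => hm (by simpa using M.mul_mem (M.inv_mem hh) h')],
    ← Finset.mul_sum, Finset.sum_comm]
  simp only [← Finset.mul_sum]
  have hs : ∀ χ : Over M K θ, ∑ m : Γ, ∑ g, x χ g * (χ₀.fn (h * m) * χ.fn (g * m⁻¹)) =
      if χ = χ₀ then (Nat.card M : ℂ) / χ.fn 1 * ∑ g, x χ g * χ₀.fn (g * h) else 0 := by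
    intro χ
    rw [Finset.sum_comm]
    simp only [← Finset.mul_sum, irr_orth_translate (hirr χ) (hirr χ₀) hh]
    by_cases he : χ = χ₀
    · subst he
      simp only [if_true, Finset.mul_sum]
      exact Finset.sum_congr rfl fun g _ => by ring
    · have : χ.fn ≠ χ₀.fn := fun h' => he (Over.fn_injective h')
      simp [if_neg this, if_neg he]
  rw [Finset.sum_congr rfl fun χ _ => by rw [hs χ], Finset.sum_eq_single χ₀]
  · rw [if_pos rfl, hcard]
    have h1 := (hirr χ₀).one_ne_zero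
    have h2 : (Nat.card K : ℂ) ≠ 0 := Nat.cast_ne_zero.2 Nat.card_pos.ne'
    have h3 : I ≠ 0 := Nat.cast_ne_zero.2 Subgroup.index_ne_zero_of_finite
    field_simp
  · intro χ _ hne
    rw [if_neg hne, mul_zero]
  · simp

end CfsgLib.RegLift
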