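import Cfsg.Agent.Lib.Blocks.Local
import Mathlib.RingTheory.IntegralClosure.IsIntegralClosure.Basic
import Mathlib.RingTheory.Polynomial.ScaleRoots
import Mathlib.Analysis.Complex.Polynomial.Basic
import Mathlib.Algebra.Polynomial.Lifts

/-!
# Idempotent polynomials in an element integral over the local ring
-/

set_option autoImplicit false

namespace CfsgLib.RegLift

open Cfsg Polynomial CfsgLib.Blocks

variable {M : Ideal AlgInt} [M.IsMaximal]

theorem exists_common_denominator {ι : Type*} (s : Finset ι) (c : ι → locRing M) :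
    ∃ b : AlgInt, b ∉ M ∧ ∀ i ∈ s, IsIntegral ℤ ((b : ℂ) * (c i : ℂ)) := by
  classical
  induction s using Finset.induction with
  | empty => exact ⟨1, fun h => (‹M.IsMaximal›).ne_top ((Ideal.eq_top_iff_one M).2 h), by simp⟩
  | @insert j s hj ih =>
    obtain ⟨b, hb, hbs⟩ := ih
    obtain ⟨a, d, hd, had⟩ := mem_locRing_iff.1 (c j).2
    refine ⟨d * b, fun h => (Ideal.IsPrime.mem_or_mem inferInstance h).elim hd hb, fun i hi => ?_⟩
    rcases Finset.mem_insert.1 hi with rfl | hi
    · rw [← had]
      have hd0 : (d : ℂ) ≠ 0 := algInt_coe_ne_zero hd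
      rw [show ((d * b : AlgInt) : ℂ) * ((a : ℂ) / (d : ℂ)) = (b : ℂ) * (a : ℂ) by
        push_cast; field_simp]
      exact b.2.mul a.2
    · rw [show ((d * b : AlgInt) : ℂ) * (c i : ℂ) = (d : ℂ) * ((b : ℂ) * (c i : ℂ)) by
        push_cast; ring]
      exact (show IsIntegral ℤ (d : ℂ) from d.2).mul (hbs i hi)

/-- The local ring is integrally closed in `ℂ`. -/
theorem root_mem_locRing {q : (locRing M)[X]} (hq : q.Monic) {r : ℂ}
    (hr : q.eval₂ (locRing M).subtype r = 0) : r ∈ locRing M := by
  classical
  obtain ⟨b, hb, hbc⟩ := exists_common_denominator (Finset.range q.natDegree) q.coeff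
  let P : ℂ[X] := q.map (locRing M).subtype
  have hP : P.Monic := hq.map _
  let S : ℂ[X] := P.scaleRoots (b : ℂ)
  have hS : S.Monic := (monic_scaleRoots_iff _).2 hP
  have hlift : S ∈ Polynomial.lifts (algebraMap AlgInt ℂ) := by
    rw [lifts_iff_coeff_lifts]
    intro n
    suffices h : IsIntegral ℤ (S.coeff n) from ⟨⟨_, h⟩, rfl⟩
    rw [coeff_scaleRoots, natDegree_map_eq_of_injective (locRing M).subtype_injective, coeff_map]
    rcases lt_trichotomy n q.natDegree with h | h | h
    · rw [show q.natDegree - n = (q.natDegree - n - 1) + 1 by omega, pow_succ',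
        ← mul_assoc, mul_comm ((locRing M).subtype (q.coeff n)) (b : ℂ)]
      exact (hbc n (Finset.mem_range.2 h)).mul ((show IsIntegral ℤ (b : ℂ) from b.2).pow _)
    · subst h
      simp [hq.coeff_natDegree, isIntegral_one]
    · simp [coeff_eq_zero_of_natDegree_lt h, isIntegral_zero]
  obtain ⟨S', hS', -, hS'm⟩ := lifts_and_degree_eq_and_monic hlift hS
  have hbr : IsIntegral AlgInt ((b : ℂ) * r) := by
    refine ⟨S', hS'm, ?_⟩
    rw [eval₂_eq_eval_map, hS']
    have h : P.eval₂ (RingHom.id ℂ) r = 0 := by
      rw [eval₂_id, eval_map]; exact hr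
    have := scaleRoots_eval₂_eq_zero (RingHom.id ℂ) (s := (b : ℂ)) h
    rwa [RingHom.id_apply, eval₂_id] at this
  haveI : Algebra.IsIntegral ℤ AlgInt := ⟨fun a => by
    exact (isIntegral_algHom_iff AlgInt.val Subtype.val_injective).1 a.2⟩
  have hZ : IsIntegral ℤ ((b : ℂ) * r) := isIntegral_trans _ hbr
  refine mem_locRing_iff.2 ⟨⟨_, hZ⟩, b, hb, ?_⟩
  show (b : ℂ) * r / (b : ℂ) = r
  rw [mul_comm, mul_div_assoc, div_self (algInt_coe_ne_zero hb), mul_one]

theorem isCoprime_multiset_prod {A : Type*} [CommSemiring A] {f : A} (s : Multiset A)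
    (h : ∀ g ∈ s, IsCoprime f g) : IsCoprime f s.prod := by
  induction s using Multiset.induction with
  | empty => simpa using isCoprime_one_right
  | cons a s ih =>
    rw [Multiset.prod_cons]
    exact (h a (Multiset.mem_cons_self a s)).mul_right
      (ih fun g hg => h g (Multiset.mem_cons_of_mem hg))

/-- An element integral over the local ring has a polynomial expression that is idempotent,
takes the value `0` at `0` and the value `1` at `1`. -/
theorem exists_idempotent_poly {A : Type*} [Ring A] [Algebra (locRing M) A] {a : A}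
    (ha : IsIntegral (locRing M) a) :
    ∃ Q : (locRing M)[X], Q.eval 0 = 0 ∧ Q.eval 1 = 1 ∧ IsIdempotentElem (aeval a Q) := by
  classical
  obtain ⟨q, hqm, hqa⟩ := ha
  let P : (locRing M)[X] := X * (X - C 1) * q
  have hPm : P.Monic := (monic_X.mul (monic_X_sub_C 1)).mul hqm
  have hPa : aeval a P = 0 := by
    rw [map_mul]
    have : aeval a q = 0 := hqa
    rw [this, mul_zero]
  let PC : ℂ[X] := P.map (locRing M).subtype
  have hroot : ∀ r ∈ PC.roots, r ∈ locRing M := fun r hr => root_mem_locRing hPm (by
    rw [← eval_map]; exact (mem_roots (hPm.map _).ne_zero).1 hr)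
  let rs : Multiset (locRing M) := PC.roots.attach.map fun r => ⟨r.1, hroot r.1 r.2⟩
  have hP : P = (rs.map fun r => X - C r).prod := by
    apply map_injective (locRing M).subtype (locRing M).subtype_injective
    rw [Polynomial.map_multiset_prod, Multiset.map_map]
    refine Eq.trans ((IsAlgClosed.splits PC).eq_prod_roots_of_monic (hPm.map _)) ?_
    congr 1
    simp only [rs, Multiset.map_map]
    conv_lhs => rw [← Multiset.attach_map_val PC.roots, Multiset.map_map]
    refine Multiset.map_congr rfl fun r _ => ?_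
    simp
  let F0 := (rs.filter fun r => red M r ≠ 1).map fun r => X - C r
  let F1 := (rs.filter fun r => ¬ red M r ≠ 1).map fun r => X - C r
  have hP01 : P = F0.prod * F1.prod := by
    rw [← Multiset.prod_add, ← Multiset.map_add, Multiset.filter_add_not, ← hP]
  have hcop : IsCoprime F0.prod F1.prod := by
    refine (isCoprime_multiset_prod _ fun g hg => ?_).symm
    obtain ⟨r, hr, rfl⟩ := Multiset.mem_map.1 hg
    refine (isCoprime_multiset_prod _ fun g' hg' => ?_)|>.symm
    obtain ⟨s, hs, rfl⟩ := Multiset.mem_map.1 hg'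
    refine isCoprime_X_sub_C_of_isUnit_sub (isUnit_of_red_ne_zero ?_)
    rw [map_sub, sub_ne_zero]
    have h1 := (Multiset.mem_filter.1 hr).2
    have h2 := not_not.1 (Multiset.mem_filter.1 hs).2
    rwa [h2]
  obtain ⟨u, v, huv⟩ := hcop
  have heval : ∀ c : locRing M, P.eval c = 0 → F0.prod.eval c = 0 ∨ F1.prod.eval c = 0 := by
    intro c hc
    rwa [hP01, eval_mul, mul_eq_zero] at hc
  have hval : ∀ (s : Multiset (locRing M)) (c : locRing M),
      (s.map fun r => X - C r).prod.eval c = 0 → c ∈ s := by
    intro s c h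
    rw [eval_multiset_prod, Multiset.prod_eq_zero_iff, Multiset.map_map, Multiset.mem_map] at h
    obtain ⟨r, hr, hrc⟩ := h
    simp only [Function.comp_apply, eval_sub, eval_X, eval_C, sub_eq_zero] at hrc
    rwa [hrc]
  have h0 : F0.prod.eval 0 = 0 := (heval 0 (by simp [P])).resolve_right fun h => by
    have h' := (Multiset.mem_filter.1 (hval _ 0 h)).2
    simp at h'
  have h1 : F1.prod.eval 1 = 0 := (heval 1 (by simp [P])).resolve_left fun h => by
    have h' := (Multiset.mem_filter.1 (hval _ 1 h)).2
    simp at h'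
  refine ⟨u * F0.prod, by rw [eval_mul, h0, mul_zero], ?_, ?_⟩
  · have h := congrArg (eval 1) huv
    rwa [eval_add, eval_mul (p := v), h1, mul_zero, add_zero, eval_one] at h
  · show aeval a (u * F0.prod) * aeval a (u * F0.prod) = aeval a (u * F0.prod)
    rw [← map_mul]
    have key : u * F0.prod * (u * F0.prod) = u * F0.prod - u * v * P := by
      rw [hP01]
      linear_combination u * F0.prod * huv
    rw [key, map_sub, map_mul _ (u * v) P, hPa, mul_zero, sub_zero]

end CfsgLib.RegLift
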