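import Cfsg.Agent.Lib.RegLift.Coprime

/-!
# Induction from inertia groups
-/

set_option autoImplicit false

namespace CfsgLib.RegLift

open Cfsg

universe u v

variable {Γ : Type u} [Group Γ] [Fintype Γ]

/-- The conjugate of a function. -/
def conjF (u : Γ) (ψ : Γ → ℂ) (x : Γ) : ℂ := ψ (u * x * u⁻¹)

omit [Fintype Γ] in
theorem conjF_one_val (u : Γ) (ψ : Γ → ℂ) : conjF u ψ 1 = ψ 1 := by simp [conjF]

omit [Fintype Γ] in
theorem conjF_conjF (u v : Γ) (ψ : Γ → ℂ) : conjF v (conjF u ψ) = conjF (u * v) ψ :=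
  funext fun x => by simp only [conjF]; group

omit [Fintype Γ] in
theorem conjF_one (ψ : Γ → ℂ) : conjF 1 ψ = ψ := funext fun x => by simp [conjF]

theorem IrrOn.conjF {M : Subgroup Γ} {ψ : Γ → ℂ} (hψ : IrrOn M ψ) {u : Γ}
    (hu : ∀ m ∈ M, u * m * u⁻¹ ∈ M) : IrrOn M (RegLift.conjF u ψ) := by
  let f : M →* M :=
    { toFun := fun m => ⟨u * m * u⁻¹, hu m m.2⟩
      map_one' := Subtype.ext (by simp)
      map_mul' := fun a b => Subtype.ext (by simp [mul_assoc]) }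
  have hf : Function.Injective f := fun a b h => by
    have := congrArg Subtype.val h
    exact Subtype.ext (mul_left_cancel (mul_right_cancel this))
  let e : M ≃* M := MulEquiv.ofBijective f (Finite.injective_iff_bijective.1 hf)
  refine ⟨fun x hx => hψ.1 _ fun h => hx ?_, ?_⟩
  · obtain ⟨m, hm⟩ := e.surjective ⟨_, h⟩
    have := congrArg Subtype.val hm
    rw [show x = (m : Γ) from (mul_left_cancel (mul_right_cancel this)).symm]
    exact m.2
  · exact CharTwist.isIrrCharacter_comp_equiv hψ.2 e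

/-- The stabiliser of a function in `H`. -/
def stab (H : Subgroup Γ) (ψ : Γ → ℂ) : Subgroup Γ where
  carrier := {u | u ∈ H ∧ conjF u ψ = ψ}
  one_mem' := ⟨H.one_mem, conjF_one ψ⟩
  mul_mem' := fun {a b} ha hb => ⟨H.mul_mem ha.1 hb.1, by rw [← conjF_conjF, ha.2, hb.2]⟩
  inv_mem' := fun {a} ha => ⟨H.inv_mem ha.1, by
    conv_lhs => rw [← ha.2]
    rw [conjF_conjF, mul_inv_cancel, conjF_one]⟩

omit [Fintype Γ] in
theorem mem_stab {H : Subgroup Γ} {ψ : Γ → ℂ} {u : Γ} :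
    u ∈ stab H ψ ↔ u ∈ H ∧ conjF u ψ = ψ := Iff.rfl

omit [Fintype Γ] in
theorem stab_le (H : Subgroup Γ) (ψ : Γ → ℂ) : stab H ψ ≤ H := fun _ h => h.1

omit [Fintype Γ] in
theorem le_stab {H M : Subgroup Γ} {ψ : Γ → ℂ} (hψ : ClassOn M ψ) (hMH : M ≤ H) : M ≤ stab H ψ :=
  fun m hm => ⟨hMH hm, funext fun x => hψ.2 m hm x⟩

omit [Fintype Γ] in
theorem classOn_stab {H M : Subgroup Γ} {ψ : Γ → ℂ} (hψ : ClassOn M ψ) (hMH : M ≤ H) :
    ClassOn (stab H ψ) ψ :=
  ⟨fun x hx => hψ.1 x fun h => hx (le_stab hψ hMH h), fun h hh x => congrFun hh.2 x⟩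

/-- Induction of a class function of `T` to `H`. -/
noncomputable def indOn (T H : Subgroup Γ) (l : Γ → ℂ) (x : Γ) : ℂ :=
  open Classical in (Nat.card T : ℂ)⁻¹ * ∑ u : Γ, if u ∈ H then l (u * x * u⁻¹) else 0

theorem indOn_classOn {T H : Subgroup Γ} {l : Γ → ℂ} (hTH : T ≤ H) (hl : ClassOn T l) :
    ClassOn H (indOn T H l) := by
  classical
  refine ⟨fun x hx => ?_, fun h hh x => ?_⟩
  · rw [indOn, Finset.sum_eq_zero fun u _ => ?_, mul_zero]
    split_ifs with hu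
    · refine hl.1 _ fun h' => hx ?_
      have := H.mul_mem (H.mul_mem (H.inv_mem hu) (hTH h')) hu
      simpa [mul_assoc] using this
    · rfl
  · simp only [indOn]
    congr 1
    refine Fintype.sum_equiv (Equiv.mulRight h) _ _ fun u => ?_
    simp only [Equiv.coe_mulRight, H.mul_mem_cancel_right hh, mul_inv_rev, mul_assoc]

theorem indOn_eq_sum {T H : Subgroup Γ} [Fintype (H ⧸ T.subgroupOf H)] {l : Γ → ℂ} (hTH : T ≤ H)
    (hl : ClassOn T l) (x : Γ) :
    indOn T H l x = ∑ q : H ⧸ T.subgroupOf H, l (((q.out : H) : Γ)⁻¹ * x * ((q.out : H) : Γ)) := by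
  classical
  have := Fintype.ofFinite H
  have := Fintype.ofFinite T
  have hT : (Nat.card T : ℂ) ≠ 0 := Nat.cast_ne_zero.2 Nat.card_pos.ne'
  have h1 : ∑ u : Γ, (if u ∈ H then l (u * x * u⁻¹) else 0) = ∑ i : H, l ((i : Γ)⁻¹ * x * i) := by
    rw [← sum_subgroup_eq H _ fun u hu => if_neg hu, ← Fintype.sum_equiv (Equiv.inv H) _ _
      (fun _ => rfl)]
    exact Finset.sum_congr rfl fun i _ => by simp
  rw [indOn, h1, decomp_sum H T hTH fun i => l (i⁻¹ * x * i), Finset.mul_sum]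
  refine Finset.sum_congr rfl fun q _ => ?_
  rw [Finset.sum_congr rfl fun (t : T) _ => show l (((q.out : H) * (t : Γ) : Γ)⁻¹ * x *
      ((q.out : H) * (t : Γ))) = l (((q.out : H) : Γ)⁻¹ * x * ((q.out : H) : Γ)) by
    rw [← hl.2 (t : Γ)⁻¹ (T.inv_mem t.2) (((q.out : H) : Γ)⁻¹ * x * ((q.out : H) : Γ))]
    group]
  rw [Finset.sum_const, Finset.card_univ, nsmul_eq_mul, ← Nat.card_eq_fintype_card, ← mul_assoc,
    inv_mul_cancel₀ hT, one_mul]

theorem sum_mul_indOn {T H : Subgroup Γ} {D l : Γ → ℂ} (hD : ClassOn H D) :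
    ∑ x, D x * indOn T H l x⁻¹ =
      (Nat.card H : ℂ) / (Nat.card T : ℂ) * ∑ x, D x * l x⁻¹ := by
  classical
  simp only [indOn, Finset.mul_sum]
  rw [Finset.sum_comm]
  have key : ∀ u : Γ, ∑ x, D x * ((Nat.card T : ℂ)⁻¹ * if u ∈ H then l (u * x⁻¹ * u⁻¹) else 0) =
      if u ∈ H then (Nat.card T : ℂ)⁻¹ * ∑ x, D x * l x⁻¹ else 0 := by
    intro u
    split_ifs with hu
    · rw [Finset.mul_sum]
      refine Fintype.sum_equiv (MulAut.conj u).toEquiv _ _ fun x => ?_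
      simp only [MulEquiv.toEquiv_eq_coe, EquivLike.coe_coe, MulAut.conj_apply]
      rw [hD.2 u hu x, show (u * x * u⁻¹)⁻¹ = u * x⁻¹ * u⁻¹ by group]
      ring
    · simp
  rw [Finset.sum_congr rfl fun u _ => key u, ← Finset.sum_filter, Finset.sum_const, nsmul_eq_mul,
    Finset.mul_sum, Finset.mul_sum]
  rw [show ((Finset.univ.filter fun u : Γ => u ∈ H).card : ℂ) = (Nat.card H : ℂ) by
    rw [Nat.card_eq_fintype_card, Fintype.card_subtype]]
  exact Finset.sum_congr rfl fun x _ => by ring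

theorem proj_conjF {M : Subgroup Γ} {ψ f : Γ → ℂ} (hψ : ∀ x, x ∉ M → ψ x = 0) (u : Γ)
    (hu : ∀ x, x ∉ M → conjF u ψ x = 0) (x : Γ) :
    proj M (conjF u ψ) (fun y => f (u * y * u⁻¹)) x = proj M ψ f (u * x * u⁻¹) := by
  rw [proj_eq_univ M hu, proj_eq_univ M hψ, conjF_one_val]
  congr 1
  refine Fintype.sum_equiv (MulAut.conj u).toEquiv _ _ fun i => ?_
  simp only [MulEquiv.toEquiv_eq_coe, EquivLike.coe_coe, MulAut.conj_apply, conjF]
  congr 2 <;> group

theorem proj_indOn {H M : Subgroup Γ} (hMn : Normalizes H M) {T : Subgroup Γ} {χ ϕ l : Γ → ℂ}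
    (hχ : IrrOn M χ) (hϕ : IrrOn M ϕ) (hl : OverOn M ϕ l) (x : Γ) :
    proj M χ (indOn T H l) x = open Classical in (Nat.card T : ℂ)⁻¹ *
      ∑ u : Γ, if u ∈ H ∧ conjF u⁻¹ χ = ϕ then l (u * x * u⁻¹) else 0 := by
  classical
  have hkey : ∀ u ∈ H, proj M χ (fun y => l (u * y * u⁻¹)) x =
      if conjF u⁻¹ χ = ϕ then l (u * x * u⁻¹) else 0 := by
    intro u hu
    have hψ : IrrOn M (conjF u⁻¹ χ) := hχ.conjF (hMn u⁻¹ (H.inv_mem hu))
    have he : conjF u (conjF u⁻¹ χ) = χ := by rw [conjF_conjF, inv_mul_cancel, conjF_one]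
    have h := proj_conjF (f := l) hψ.1 u (by rw [he]; exact hχ.1) x
    rw [he] at h
    rw [h, ← funext hl, proj_proj hψ hϕ]
    split_ifs with hc
    · rw [hc, funext hl]
    · rfl
  simp only [proj_eq_univ M hχ.1, indOn, Finset.mul_sum]
  rw [Finset.sum_comm]
  refine Finset.sum_congr rfl fun u _ => ?_
  by_cases hu : u ∈ H
  · have h := hkey u hu
    rw [proj_eq_univ M hχ.1, Finset.mul_sum] at h
    simp only [hu, true_and, if_true]
    rw [← h, Finset.mul_sum]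
    exact Finset.sum_congr rfl fun i _ => by ring
  · simp [hu]

theorem proj_indOn_self {H M : Subgroup Γ} (hMn : Normalizes H M) {ϕ l : Γ → ℂ}
    (hϕ : IrrOn M ϕ) (hlc : ClassOn (stab H ϕ) l) (hl : OverOn M ϕ l) (x : Γ) :
    proj M ϕ (indOn (stab H ϕ) H l) x = l x := by
  classical
  rw [proj_indOn hMn hϕ hϕ hl, ← Finset.sum_filter]
  have he : (Finset.univ.filter fun u : Γ => u ∈ H ∧ conjF u⁻¹ ϕ = ϕ) =
      Finset.univ.filter fun u : Γ => u ∈ stab H ϕ := by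
    refine Finset.filter_congr fun u _ => ?_
    rw [← (stab H ϕ).inv_mem_iff, mem_stab, H.inv_mem_iff]
  rw [he, Finset.sum_congr rfl fun u hu => hlc.2 u (Finset.mem_filter.1 hu).2 x, Finset.sum_const,
    nsmul_eq_mul, ← mul_assoc,
    show ((Finset.univ.filter fun u : Γ => u ∈ stab H ϕ).card : ℂ) = (Nat.card (stab H ϕ) : ℂ) by
      rw [Nat.card_eq_fintype_card, Fintype.card_subtype],
    inv_mul_cancel₀ (Nat.cast_ne_zero.2 Nat.card_pos.ne'), one_mul]

theorem proj_indOn_of_ne {H M : Subgroup Γ} (hMn : Normalizes H M) {T : Subgroup Γ}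
    {χ ϕ l : Γ → ℂ} (hχ : IrrOn M χ) (hϕ : IrrOn M ϕ) (hl : OverOn M ϕ l)
    (hne : ∀ u ∈ H, conjF u χ ≠ ϕ) (x : Γ) : proj M χ (indOn T H l) x = 0 := by
  classical
  rw [proj_indOn hMn hχ hϕ hl, Finset.sum_eq_zero fun u _ => ?_, mul_zero]
  exact if_neg fun h => hne u⁻¹ (H.inv_mem h.1) h.2

theorem indOn_overOn {T H K : Subgroup Γ} {θ l : Γ → ℂ} (hθ : ClassOn H θ)
    (hθK : ∀ x, x ∉ K → θ x = 0) (hl : OverOn K θ l) : OverOn K θ (indOn T H l) := by
  classical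
  intro x
  simp only [proj_eq_univ K hθK, indOn, Finset.mul_sum]
  rw [Finset.sum_comm]
  refine Finset.sum_congr rfl fun u _ => ?_
  by_cases hu : u ∈ H
  · have he : conjF u θ = θ := funext fun y => hθ.2 u hu y
    have h := proj_conjF (f := l) hθK u (by rw [he]; exact hθK) x
    rw [he, proj_eq_univ K hθK, hl, Finset.mul_sum] at h
    simp only [if_pos hu]
    rw [← h, Finset.mul_sum]
    exact Finset.sum_congr rfl fun i _ => by ring
  · simp [hu]

/-- An integral element acting as the projection to one character over `θ`. -/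
theorem exists_projector {R : Subring ℂ} (hint : ∀ z : ℂ, IsIntegral ℤ z → z ∈ R)
    {M K : Subgroup Γ} {θ : Γ → ℂ} [Fintype (Over M K θ)] (hθ : IrrOn K θ) (hKM : K ≤ M)
    (hθM : ClassOn M θ) (hF : Full R M fun χ : Over M K θ => χ.fn) (χ₀ : Over M K θ) :
    ∃ b : Γ → ℂ, (∀ g, b g ∈ R) ∧ (∀ g, g ∉ M → b g = 0) ∧
      ∀ f : Γ → ℂ, OverOn K θ f → ∀ x, ∑ g, b g * f (g * x) = proj M χ₀.fn f x := by
  classical
  let X : Over M K θ → Γ → ℂ := fun χ g => if χ = χ₀ ∧ g = 1 then 1 else 0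
  have hX : ∀ χ h, ∑ g, X χ g * χ.fn (g * h) = if χ = χ₀ then χ.fn h else 0 := by
    intro χ h
    rw [Finset.sum_eq_single 1]
    · simp [X]
    · intro g _ hg; simp [X, hg]
    · simp
  obtain ⟨b, hbR, hb0, hb⟩ := hF X fun χ h _ => by
    show ∑ g, X χ g * χ.fn (g * h) ∈ R
    rw [hX]
    split_ifs
    · exact hint _ (χ.irrOn.isIntegral h)
    · exact R.zero_mem
  have hb' : ∀ (χ : Over M K θ) (h : Γ), ∑ g, b g * χ.fn (g * h) =
      if χ = χ₀ then χ.fn h else 0 := by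
    intro χ h
    by_cases hh : h ∈ M
    · rw [hb χ h hh]
      exact hX χ h
    · rw [χ.irrOn.1 h hh, ite_self, Finset.sum_eq_zero fun g _ => ?_]
      by_cases hg : g ∈ M
      · rw [χ.irrOn.1 (g * h) fun h' => hh (by simpa using M.mul_mem (M.inv_mem hg) h'), mul_zero]
      · rw [hb0 g hg, zero_mul]
  refine ⟨b, hbR, hb0, fun f hf x => ?_⟩
  have e : ∀ (χ : Over M K θ) (g : Γ), proj M χ.fn f (g * x) =
      χ.fn 1 / (Nat.card M : ℂ) * ∑ l : Γ, χ.fn (g * l⁻¹) * f (l * x) := by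
    intro χ g
    rw [proj_eq_univ M χ.irrOn.1]
    congr 1
    refine Fintype.sum_equiv (Equiv.mulRight g) _ _ fun i => ?_
    simp only [Equiv.coe_mulRight, mul_inv_rev, mul_inv_cancel_left, mul_assoc]
  calc ∑ g, b g * f (g * x)
      = ∑ χ : Over M K θ, χ.fn 1 / (Nat.card M : ℂ) *
          ∑ l : Γ, (∑ g, b g * χ.fn (g * l⁻¹)) * f (l * x) := by
        rw [Finset.sum_congr rfl fun g _ => congrArg (b g * ·)
          (sum_proj_eq hθ hKM hθM hf (g * x)).symm]
        simp only [e, Finset.mul_sum, Finset.sum_mul]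
        rw [Finset.sum_comm]
        refine Finset.sum_congr rfl fun χ _ => ?_
        rw [Finset.sum_comm]
        exact Finset.sum_congr rfl fun l _ => Finset.sum_congr rfl fun g _ => by ring
    _ = _ := by
        rw [Finset.sum_eq_single χ₀]
        · simp only [hb', if_true]
          rw [proj_eq_univ M χ₀.irrOn.1]
        · intro χ _ hne
          simp [hb', hne]
        · simp

end CfsgLib.RegLift
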