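import Cfsg.Agent.Lib.RegLift.PFactor
import Cfsg.Agent.Lib.DegGraph.Det
import Cfsg.Prelude.Def_Local

/-!
# Lifting sets exist in `p`-solvable groups

This is the character-theoretic form of the theorem of Fong and Swan: a family of ordinary
characters whose restrictions to the regular elements detect all class functions there, and on
which the integral group algebra acts by full matrix algebras.
-/

set_option autoImplicit false

namespace CfsgLib.RegLift

open Cfsg

universe u v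

variable {Γ : Type u} [Group Γ] [Fintype Γ]

/-- The data carried through the induction. -/
structure Good (R : Subring ℂ) (p : ℕ) (H K : Subgroup Γ) (θ : Γ → ℂ) : Prop where
  irr : IrrOn K θ
  cls : ClassOn H θ
  norm : Normalizes H K
  le : K ≤ H
  deg : ∃ d : ℕ, θ 1 = d ∧ ¬ p ∣ d
  det : DetGood p K θ
  full : Full R K fun _ : PUnit.{u + 1} => θ

theorem det_eq_pow {G : Type*} [Group G] [Finite G] {n d : ℕ} (ρ : Representation ℂ G (Fin n → ℂ))
    (σ : Representation ℂ G (Fin d → ℂ)) (e : ℕ) (h : ∀ g, ρ.character g = (e : ℂ) * σ.character g)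
    (g : G) : LinearMap.det (ρ g) = LinearMap.det (σ g) ^ e := by
  classical
  let B : G →* Matrix (Fin d × Fin e) (Fin d × Fin e) ℂ :=
    { toFun := fun g => Matrix.blockDiagonal fun _ : Fin e => LinearMap.toMatrix' (σ g)
      map_one' := by
        simp only [map_one, LinearMap.toMatrix'_one]
        exact Matrix.blockDiagonal_one
      map_mul' := fun a b => by
        simp only [map_mul, LinearMap.toMatrix'_mul]
        exact Matrix.blockDiagonal_mul _ _ }
  let τ : Representation ℂ G (Fin d × Fin e → ℂ) :=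
    (Matrix.toLinAlgEquiv' (R := ℂ) (n := Fin d × Fin e)).toAlgHom.toMonoidHom.comp B
  have hτ : ρ.character = τ.character := by
    funext x
    show _ = LinearMap.trace ℂ _ (Matrix.toLin' (B x))
    rw [Matrix.trace_toLin'_eq, h]
    show _ = Matrix.trace (Matrix.blockDiagonal fun _ : Fin e => LinearMap.toMatrix' (σ x))
    rw [Matrix.trace_blockDiagonal, Finset.sum_const, Finset.card_univ, Fintype.card_fin,
      nsmul_eq_mul, Representation.character,
      LinearMap.trace_eq_matrix_trace ℂ (Pi.basisFun ℂ (Fin d))]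
    rfl
  rw [DegGraph.det_eq_of_character_eq ρ τ hτ g]
  show LinearMap.det (Matrix.toLin' (B g)) = _
  rw [LinearMap.det_toLin']
  show Matrix.det (Matrix.blockDiagonal fun _ : Fin e => LinearMap.toMatrix' (σ g)) = _
  rw [Matrix.det_blockDiagonal, Finset.prod_const, Finset.card_univ, Fintype.card_fin,
    LinearMap.det_toMatrix']

section Coprime

variable {R : Subring ℂ} {p : ℕ} [hp : Fact p.Prime] {H M K : Subgroup Γ} {θ : Γ → ℂ}

theorem over_good (hG : Good R p H K θ) (hKM : K ≤ M) (hMH : M ≤ H)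
    (hcop : ¬ p ∣ K.relIndex M) (χ : Over M K θ) :
    (∃ n : ℕ, χ.fn 1 = n ∧ ¬ p ∣ n) ∧ DetGood p M χ.fn := by
  classical
  obtain ⟨d, hd, hpd⟩ := hG.deg
  have := Fintype.ofFinite M
  have := Fintype.ofFinite K
  have hψ := χ.irrOn
  have hclψ := isClassFunction_of_irr hψ
  have hKψ : ∀ u ∈ K, ∀ x, χ.fn (u * x * u⁻¹) = χ.fn x := fun u hu => hclψ.2 u (hKM hu)
  have hres : IsCharacter K fun k : K => χ.fn k :=
    Char.IsCharacter.comp (Char.IsIrrCharacter.isCharacter hψ.2) (Subgroup.inclusion hKM)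
  obtain ⟨e, he⟩ := Char.IsCharacter.exists_nat_classInner hres hG.irr.2
  have hek : ∀ k : K, χ.fn k = (e : ℂ) * θ k := by
    intro k
    rw [over_self hG.irr hKψ χ.overOn k.2, ← he, classInner]
    congr 2
    refine Finset.sum_congr rfl fun j _ => ?_
    congr 1
    exact Char.IsIrrCharacter.apply_inv hG.irr.2 j
  let N : Subgroup M := K.subgroupOf M
  haveI hN : N.Normal := ⟨fun n hn m => Subgroup.mem_subgroupOf.2 (by
    simpa using hG.norm m (hMH m.2) n (Subgroup.mem_subgroupOf.1 hn))⟩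
  have := Fintype.ofFinite N
  let θ' : N → ℂ := fun n => θ ((n : M) : Γ)
  have hθ' : IsIrrCharacter N θ' :=
    CharTwist.isIrrCharacter_comp_equiv hG.irr.2 (Subgroup.subgroupOfEquivOfLe hKM)
  have he0 : (e : ℂ) ≠ 0 := fun h0 => hψ.one_ne_zero (by
    have h := hek 1
    rw [Subgroup.coe_one, h0, zero_mul] at h
    exact h)
  have hcon : classInner (fun n : N => (fun m : M => χ.fn m) n) θ' ≠ 0 := by
    have h : (fun n : N => (fun m : M => χ.fn m) n) = (e : ℂ) • θ' :=
      funext fun n => hek ⟨_, Subgroup.mem_subgroupOf.1 n.2⟩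
    rw [h, Char.classInner_smul_left, Char.classInner_irr_self hθ', mul_one]
    exact he0
  obtain ⟨b, d', hd', hψ1, hb⟩ := CharDeep.Extend.degree_dvd N θ' hθ'
    (fun g n => hG.cls.2 g (hMH g.2) _) (fun m : M => χ.fn m) hψ.2 hcon
  have hdd : d' = d := by
    have : (d' : ℂ) = (d : ℂ) := hd'.symm.trans hd
    exact_mod_cast this
  subst hdd
  refine ⟨⟨b * d', hψ1, fun h => (hp.out.dvd_mul.1 h).elim (fun h' => hcop (h'.trans hb)) hpd⟩, ?_⟩
  intro m ⟨j, hj⟩
  have hmK : (m : Γ) ∈ K := by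
    have h1 : (QuotientGroup.mk' N m) ^ p ^ j = 1 := by
      rw [← map_pow, ← hj, pow_orderOf_eq_one, map_one]
    have h2 : (QuotientGroup.mk' N m) ^ K.relIndex M = 1 := by
      rw [← map_pow]
      exact (QuotientGroup.eq_one_iff _).2 (N.pow_index_mem m)
    have h3 := orderOf_eq_one_iff.1 (Nat.eq_one_of_dvd_coprimes
      ((hp.out.coprime_iff_not_dvd.2 hcop).pow_left j) (orderOf_dvd_of_pow_eq_one h1)
      (orderOf_dvd_of_pow_eq_one h2))
    exact Subgroup.mem_subgroupOf.1 ((QuotientGroup.eq_one_iff _).1 h3)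
  obtain ⟨n, ρ, hρ, hρc⟩ := hψ.2
  obtain ⟨d₀, σ, hσ, hσc⟩ := hG.irr.2
  haveI := hρ
  haveI := hσ
  let ρK : Representation ℂ K (Fin n → ℂ) := ρ.comp (Subgroup.inclusion hKM)
  have hpow := det_eq_pow ρK σ e (fun k => by
    rw [show ρK.character k = χ.fn k from congrFun hρc (Subgroup.inclusion hKM k), hek, hσc])
    ⟨(m : Γ), hmK⟩
  have hdet := hG.det ⟨(m : Γ), hmK⟩ ⟨j, by rw [← hj, ← Subgroup.orderOf_coe, ← Subgroup.orderOf_coe]⟩
  rw [← hσc, CharDeep.Cover.detChar_eq] at hdet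
  simp only at hdet
  rw [← hρc, CharDeep.Cover.detChar_eq]
  show LinearMap.det (ρK ⟨(m : Γ), hmK⟩) = 1
  rw [hpow, hdet, one_pow]

end Coprime

theorem exists_step {p : ℕ} [hp : Fact p.Prime] (hsolv : IsPSolvable p Γ) {H K : Subgroup Γ}
    (hKH : K ≤ H) (hKn : Normalizes H K) (hne : K ≠ H) :
    ∃ M : Subgroup Γ, K < M ∧ M ≤ H ∧ Normalizes H M ∧
      ((∃ k, K.relIndex M = p ^ k) ∨ ¬ p ∣ K.relIndex M) := by
  classical
  obtain ⟨n, S, hS0, hSn, hSm, hSnorm, hSfac⟩ := hsolv
  have hex : ∃ i : Fin (n + 1), ¬ S i ⊓ H ≤ K :=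
    ⟨Fin.last n, fun h => hne (le_antisymm hKH (by rwa [hSn, top_inf_eq] at h))⟩
  obtain ⟨i, hi, hmin⟩ := WellFounded.has_min (wellFounded_lt (α := Fin (n + 1)))
    {i | ¬ S i ⊓ H ≤ K} hex
  obtain ⟨i, rfl⟩ : ∃ j : Fin n, j.succ = i := by
    refine Fin.exists_succ_eq.2 fun h => hi ?_
    rw [h, hS0, bot_inf_eq]
    exact bot_le
  have hprev : S i.castSucc ⊓ H ≤ K := by
    by_contra h
    exact hmin _ h Fin.castSucc_lt_succ
  set A : Subgroup Γ := S i.succ ⊓ H
  let K' : Subgroup H := K.subgroupOf H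
  let A' : Subgroup H := A.subgroupOf H
  haveI hK' : K'.Normal := ⟨fun a ha g => Subgroup.mem_subgroupOf.2 (by
    simpa using hKn g g.2 a (Subgroup.mem_subgroupOf.1 ha))⟩
  haveI hA' : A'.Normal := ⟨fun a ha g => Subgroup.mem_subgroupOf.2 (by
    have h := Subgroup.mem_subgroupOf.1 ha
    exact ⟨by simpa using (hSnorm i.succ).conj_mem _ h.1 g, SetLike.coe_mem _⟩)⟩
  let M' : Subgroup H := A' ⊔ K'
  have hM'n : M'.Normal := inferInstance
  let M : Subgroup Γ := M'.map H.subtype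
  have hMH : M ≤ H := Subgroup.map_subtype_le M'
  have hKM : K ≤ M := fun k hk =>
    ⟨⟨k, hKH hk⟩, Subgroup.mem_sup_right (Subgroup.mem_subgroupOf.2 hk), rfl⟩
  have hAM : A ≤ M := fun a ha =>
    ⟨⟨a, ha.2⟩, Subgroup.mem_sup_left (Subgroup.mem_subgroupOf.2 ha), rfl⟩
  have hMn : Normalizes H M := fun g hg m ⟨m', hm', hmm⟩ => by
    subst hmm
    exact ⟨⟨g, hg⟩ * m' * (⟨g, hg⟩ : H)⁻¹, hM'n.conj_mem _ hm' _, rfl⟩
  have hdvd : K.relIndex M ∣ (S i.castSucc).relIndex (S i.succ) := by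
    have h1 : K.relIndex M = K'.relIndex M' := by
      have hMe : M.subgroupOf H = M' := Subgroup.comap_map_eq_self_of_injective H.subtype_injective M'
      rw [← hMe]
      exact (Subgroup.relIndex_subgroupOf hMH).symm
    rw [h1, Subgroup.relIndex_sup_right, Subgroup.relIndex_subgroupOf inf_le_right]
    refine (Subgroup.relIndex_dvd_of_le_left A hprev).trans ?_
    have h2 : (S i.castSucc ⊓ H).relIndex A = (S i.castSucc).relIndex A := by
      rw [← Subgroup.inf_relIndex_right (S i.castSucc ⊓ H) A, inf_assoc,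
        inf_eq_right.2 (inf_le_right : A ≤ H), Subgroup.inf_relIndex_right]
    rw [h2]
    have hA : A ≤ S i.succ := inf_le_left
    haveI := (hSnorm i.castSucc)
    rw [← Subgroup.relIndex_subgroupOf hA, Subgroup.relIndex]
    exact Subgroup.relIndex_dvd_index_of_normal _ _
  refine ⟨M, lt_of_le_of_ne hKM fun h => hi (h ▸ hAM), hMH, hMn, ?_⟩
  rcases hSfac i with ⟨m, hm⟩ | hc
  · rw [hm] at hdvd
    obtain ⟨k, -, hk⟩ := (Nat.dvd_prime_pow hp.out).1 hdvd
    exact Or.inl ⟨k, hk⟩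
  · exact Or.inr fun h => hp.out.not_dvd_one (hc ▸ Nat.dvd_gcd (h.trans hdvd) dvd_rfl)

/-- Lifting sets exist. -/
theorem exists_lift {R : Subring ℂ} (hint : ∀ z : ℂ, IsIntegral ℤ z → z ∈ R) {p : ℕ}
    [hp : Fact p.Prime] (hinv : ∀ n : ℕ, ¬ p ∣ n → ((n : ℂ))⁻¹ ∈ R) (hsolv : IsPSolvable p Γ)
    (H K : Subgroup Γ) (θ : Γ → ℂ) (hG : Good R p H K θ) :
    ∃ (ι : Type u) (_ : Fintype ι) (l : ι → Γ → ℂ), IsLift R p H K θ l := by
  classical
  induction hm : Nat.card H - Nat.card K using Nat.strong_induction_on generalizing H K θ with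
  | _ n ih =>
  subst hm
  by_cases hne : K = H
  · subst hne
    have := Fintype.ofFinite K
    refine ⟨PUnit, inferInstance, fun _ => θ, fun _ => hG.cls, fun _ => proj_self hG.irr,
      fun _ => Char.IsIrrCharacter.isCharacter hG.irr.2, hG.full, fun D hDc hDθ _ hD => ?_⟩
    funext x
    show D x = 0
    by_cases hx : x ∈ K
    · rw [over_self hG.irr hDc.2 hDθ hx, sum_subgroup_eq K (fun j => D j * θ j⁻¹)
        fun j hj => by rw [hDc.1 j hj, zero_mul], hD PUnit.unit]
      simp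
    · exact hDc.1 x hx
  obtain ⟨M, hKM, hMH, hMn, hcase⟩ := exists_step hsolv hG.le hG.norm hne
  have hlt : Nat.card K < Nat.card M := Set.ncard_lt_ncard hKM
  have hcardMH : Nat.card M ≤ Nat.card H := Subgroup.card_le_of_le hMH
  by_cases hcop : ¬ p ∣ K.relIndex M
  · have := Fintype.ofFinite (Over M K θ)
    obtain ⟨d, hd, hpd⟩ := hG.deg
    have hF : Full R M fun χ : Over M K θ => χ.fn := full_over hint hG.irr hKM.le hG.full
      (by rw [hd]; exact hinv d hpd) (hinv _ hcop)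
    refine orbit_step hint hG.irr hG.cls hKM.le hMH hMn hF fun χ => ?_
    obtain ⟨hdeg, hdet⟩ := over_good hG hKM.le hMH hcop χ
    have hcl := isClassFunction_of_irr χ.irrOn
    refine ih _ ?_ (stab H χ.fn) M χ.fn
      ⟨χ.irrOn, classOn_stab hcl hMH, fun u hu => hMn u hu.1, le_stab hcl hMH, hdeg, hdet, ?_⟩ rfl
    · have : Nat.card (stab H χ.fn) ≤ Nat.card H := Subgroup.card_le_of_le (stab_le H χ.fn)
      omega
    · intro x hx
      obtain ⟨y, hy, hy0, hyx⟩ :=
        hF (fun χ' g => if χ' = χ then x PUnit.unit g else 0) fun χ' h hh => by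
          by_cases he : χ' = χ
          · subst he
            simpa using hx PUnit.unit h hh
          · simp [he]
      refine ⟨y, hy, hy0, fun i h hh => ?_⟩
      simpa using hyx χ h hh
  · obtain ⟨k, hk⟩ := hcase.resolve_right hcop
    obtain ⟨d, hd, hpd⟩ := hG.deg
    obtain ⟨η, hη, hηH, hηK, hηg⟩ :=
      exists_ext hG.irr hG.cls hKM.le hMH hG.norm hMn hk hd hpd hG.det
    obtain ⟨ι, hι, l, hl⟩ := ih _ (by omega) H M η ⟨hη, hηH, hMn, hMH,
      ⟨d, by rw [hηK 1 K.one_mem, hd], hpd⟩, hηg, full_ext hG.irr hη hKM.le hηK hG.full⟩ rfl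
    refine ⟨ι, hι, l, hl.cls, fun i => OverOn.trans hη hG.irr ?_ (hl.over i), hl.char, hl.full,
      detect_ext hG.irr hη hηH hKM.le hMH hG.norm hMn hk hηK hl.cls hl.over hl.detect⟩
    have hθM : ClassOn M θ := ⟨fun x hx => hG.irr.1 x fun h => hx (hKM.le h),
      fun u hu x => hG.cls.2 u (hMH hu) x⟩
    refine (proj_irr_dichotomy hG.irr hKM.le hθM hη).resolve_right fun h => ?_
    have := Fintype.ofFinite K
    have h1 := h 1
    rw [proj_eq, Finset.sum_congr rfl fun (i : K) _ => show θ (i : Γ)⁻¹ * η ((i : Γ) * 1) =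
      θ (i : Γ)⁻¹ * θ ((i : Γ) * 1) by rw [mul_one, hηK _ i.2], ← proj_eq, proj_self hG.irr 1] at h1
    exact hG.irr.one_ne_zero h1

/-- The trivial character of the trivial subgroup starts the induction. -/
theorem good_bot {R : Subring ℂ} (p : ℕ) [hp : Fact p.Prime] :
    open Classical in Good R p (⊤ : Subgroup Γ) ⊥ fun x => if x = 1 then 1 else 0 := by
  classical
  have h1 : (fun m : (⊥ : Subgroup Γ) => if (m : Γ) = 1 then (1 : ℂ) else 0) = fun _ => (1 : ℂ) :=
    funext fun m => if_pos (Subgroup.mem_bot.1 m.2)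
  refine ⟨⟨fun x hx => if_neg fun h => hx (Subgroup.mem_bot.2 h), ?_⟩, ⟨?_, ?_⟩, ?_, bot_le, ?_, ?_,
    ?_⟩
  · rw [h1]; exact Char.isIrrCharacter_principal
  · exact fun x hx => absurd (Subgroup.mem_top x) hx
  · intro h _ x
    simp only [conj_eq_one_iff]
  · intro m _ k hk
    simp [Subgroup.mem_bot.1 hk]
  · exact ⟨1, by simp, hp.out.not_dvd_one⟩
  · intro m _
    rw [Subsingleton.elim m 1]
    obtain ⟨δ, hδ⟩ : ∃ δ : (⊥ : Subgroup Γ) →* ℂˣ,
        detChar (fun m : (⊥ : Subgroup Γ) => if (m : Γ) = 1 then (1 : ℂ) else 0) = fun g => (δ g : ℂ) := by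
      rw [h1]
      obtain ⟨n, ρ, hρ, hρc⟩ := Char.isIrrCharacter_principal (G := (⊥ : Subgroup Γ))
      haveI := hρ
      exact ⟨MonoidHom.toHomUnits ((LinearMap.det).comp ρ), by
        rw [← hρc, CharDeep.Cover.detChar_eq]; rfl⟩
    rw [hδ]
    simp
  · intro x hx
    have hxR := hx PUnit.unit 1 (Subgroup.one_mem _)
    refine ⟨fun g => if g = 1 then ∑ z, x PUnit.unit z * if z * 1 = 1 then (1 : ℂ) else 0 else 0,
      fun g => ?_, fun g hg => if_neg fun h => hg (Subgroup.mem_bot.2 h), fun i h hh => ?_⟩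
    · dsimp only
      split_ifs
      · exact hxR
      · exact R.zero_mem
    · obtain rfl : i = PUnit.unit := rfl
      obtain rfl := Subgroup.mem_bot.1 hh
      simp

end CfsgLib.RegLift
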