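import Cfsg.Agent.Lib.RegLift.Inertia

/-!
# Lifting sets from inertia groups
-/

set_option autoImplicit false

namespace CfsgLib.RegLift

open Cfsg

universe u v

variable {Γ : Type u} [Group Γ] [Fintype Γ]

/-- A family of characters of `H` over `θ` that is full and detects the functions regular
modulo `K`. -/
structure IsLift (R : Subring ℂ) (p : ℕ) (H K : Subgroup Γ) (θ : Γ → ℂ) {ι : Type v}
    (l : ι → Γ → ℂ) : Prop where
  cls : ∀ i, ClassOn H (l i)
  over : ∀ i, OverOn K θ (l i)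
  char : ∀ i, IsCharacter H fun h : H => l i h
  full : Full R H l
  detect : Detect p H K θ l

omit [Fintype Γ] in
theorem reg_coset {p : ℕ} {M : Subgroup Γ} {x i : Γ} (hx : ∀ m ∈ M, x * m * x⁻¹ ∈ M)
    (hi : i ∈ M) (h : Reg p M (i * x)) : Reg p M x := by
  obtain ⟨n, h0, hp, hn⟩ := h
  refine ⟨n, h0, hp, ?_⟩
  have key : ∀ j : ℕ, (i * x) ^ j * (x ^ j)⁻¹ ∈ M ∧ ∀ m ∈ M, x ^ j * m * (x ^ j)⁻¹ ∈ M := by
    intro j
    induction j with
    | zero => simp
    | succ j ih =>
      constructor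
      · rw [pow_succ', pow_succ', mul_inv_rev]
        rw [show i * x * (i * x) ^ j * ((x ^ j)⁻¹ * x⁻¹) =
          i * (x * ((i * x) ^ j * (x ^ j)⁻¹) * x⁻¹) by group]
        exact M.mul_mem hi (hx _ ih.1)
      · intro m hm
        rw [pow_succ', mul_inv_rev, show x * x ^ j * m * ((x ^ j)⁻¹ * x⁻¹) =
          x * (x ^ j * m * (x ^ j)⁻¹) * x⁻¹ by group]
        exact hx _ (ih.2 m hm)
  have := M.mul_mem (M.inv_mem (key n).1) hn
  simpa [mul_assoc] using this

theorem sum_proj_mul {T M : Subgroup Γ} {ψ l : Γ → ℂ} (hψ : ∀ x, x ∉ M → ψ x = 0) (hMT : M ≤ T)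
    (hl : ClassOn T l) (D : Γ → ℂ) :
    ∑ x, proj M ψ D x * l x⁻¹ = ∑ x, D x * proj M ψ l x⁻¹ := by
  simp only [proj_eq_univ M hψ, Finset.mul_sum, Finset.sum_mul]
  rw [Finset.sum_comm, Finset.sum_comm (f := fun x i => D x * (ψ 1 / (Nat.card M : ℂ) * _))]
  refine Finset.sum_congr rfl fun i _ => ?_
  refine Fintype.sum_equiv (Equiv.mulLeft i) _ _ fun x => ?_
  simp only [Equiv.coe_mulLeft, mul_inv_rev]
  by_cases hi : i ∈ M
  · rw [hl.mul_comm' (hMT hi) (x⁻¹ * i⁻¹), inv_mul_cancel_right]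
    ring
  · rw [hψ i⁻¹ fun h => hi (by simpa using M.inv_mem h)]
    ring

theorem proj_classOn_conj {H M : Subgroup Γ} {ψ D : Γ → ℂ} (hψ : IrrOn M ψ) (hD : ClassOn H D)
    (hMn : Normalizes H M) {u : Γ} (hu : u ∈ H) (x : Γ) :
    proj M (conjF u ψ) D x = proj M ψ D (u * x * u⁻¹) := by
  have h := proj_conjF (f := D) hψ.1 u (hψ.conjF (hMn u hu)).1 x
  rwa [show (fun y => D (u * y * u⁻¹)) = D from funext fun y => hD.2 u hu y] at h

theorem isCharacter_indOn {T H : Subgroup Γ} (hTH : T ≤ H) {l : Γ → ℂ} (hl : ClassOn T l)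
    (hc : IsCharacter T fun t : T => l t) : IsCharacter H fun h : H => indOn T H l h := by
  classical
  have := Fintype.ofFinite H
  let e : T.subgroupOf H ≃* T := Subgroup.subgroupOfEquivOfLe hTH
  have hc' : IsCharacter (T.subgroupOf H) fun t => l ((t : H) : Γ) :=
    Char.IsCharacter.comp hc e.toMonoidHom
  convert Char.IsCharacter.indFun (T.subgroupOf H) hc' using 1
  funext h
  rw [Char.indFun_apply, indOn, Nat.card_congr e.toEquiv,
    ← sum_subgroup_eq H _ fun u hu => if_neg hu, ← Fintype.sum_equiv (Equiv.inv H) _ _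
      (fun _ => rfl)]
  congr 1
  refine Finset.sum_congr rfl fun x _ => ?_
  simp only [Equiv.inv_apply, Subgroup.coe_inv, inv_mem_iff, SetLike.coe_mem, if_true, inv_inv]
  by_cases hx : x⁻¹ * h * x ∈ T.subgroupOf H
  · rw [Char.extendByZero_apply_mem _ _ hx]
    rfl
  · rw [Char.extendByZero_of_notMem _ _ hx, hl.1]
    exact fun h' => hx (Subgroup.mem_subgroupOf.2 (by simpa using h'))

variable {R : Subring ℂ} {p : ℕ} {H M K : Subgroup Γ} {θ : Γ → ℂ}

/-- Lifting sets for the inertia groups induce a lifting set of `H`. -/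
theorem orbit_step (hint : ∀ z : ℂ, IsIntegral ℤ z → z ∈ R) (hθ : IrrOn K θ)
    (hθH : ClassOn H θ) (hKM : K ≤ M) (hMH : M ≤ H) (hMn : Normalizes H M)
    [Fintype (Over M K θ)] (hFM : Full R M fun χ : Over M K θ => χ.fn)
    (rec : ∀ χ : Over M K θ, ∃ (ι : Type u) (_ : Fintype ι) (l : ι → Γ → ℂ),
      IsLift R p (stab H χ.fn) M χ.fn l) :
    ∃ (ι : Type u) (_ : Fintype ι) (l : ι → Γ → ℂ), IsLift R p H K θ l := by
  classical
  have hθM : ClassOn M θ :=
    ⟨fun x hx => hθ.1 x fun h => hx (hKM h), fun h hh x => hθH.2 h (hMH hh) x⟩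
  let S : Setoid (Over M K θ) :=
    { r := fun χ χ' => ∃ u ∈ H, conjF u χ.fn = χ'.fn
      iseqv :=
        { refl := fun χ => ⟨1, H.one_mem, conjF_one _⟩
          symm := fun {χ χ'} ⟨u, hu, h⟩ => ⟨u⁻¹, H.inv_mem hu, by
            rw [← h, conjF_conjF, mul_inv_cancel, conjF_one]⟩
          trans := fun {χ χ' χ''} ⟨u, hu, h⟩ ⟨v, hv, h'⟩ => ⟨u * v, H.mul_mem hu hv, by
            rw [← conjF_conjF, h, h']⟩ } }
  let Q := Quotient S
  let rep : Q → Over M K θ := fun q => q.out
  have hsep : ∀ q q' : Q, q ≠ q' → ∀ u ∈ H, conjF u (rep q).fn ≠ (rep q').fn := by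
    intro q q' hne u hu h
    refine hne ?_
    rw [← Quotient.out_eq q, ← Quotient.out_eq q']
    exact Quotient.sound ⟨u, hu, h⟩
  choose ι hι l hl using fun q : Q => rec (rep q)
  let T : Q → Subgroup Γ := fun q => stab H (rep q).fn
  have hTH : ∀ q, T q ≤ H := fun q => stab_le H _
  have hMT : ∀ q, M ≤ T q := fun q => le_stab (isClassFunction_of_irr (rep q).irrOn) hMH
  let J := (q : Q) × ι q
  let L : J → Γ → ℂ := fun i => indOn (T i.1) H (l i.1 i.2)
  have hLc : ∀ i, ClassOn H (L i) := fun i => indOn_classOn (hTH _) ((hl i.1).cls i.2)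
  have hLo : ∀ i, OverOn K θ (L i) := fun i => indOn_overOn hθH hθ.1
    (OverOn.trans (rep i.1).irrOn hθ (rep i.1).overOn ((hl i.1).over i.2))
  have hproj : ∀ (i : J) (q : Q) (x : Γ), proj M (rep q).fn (L i) x =
      if i.1 = q then l i.1 i.2 x else 0 := by
    intro i q x
    by_cases hq : i.1 = q
    · rw [if_pos hq, ← hq]
      exact proj_indOn_self hMn (rep i.1).irrOn ((hl i.1).cls i.2) ((hl i.1).over i.2) x
    · rw [if_neg hq]
      exact proj_indOn_of_ne hMn (rep q).irrOn (rep i.1).irrOn ((hl i.1).over i.2)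
        (fun u hu => hsep q i.1 (Ne.symm hq) u hu) x
  have := Fintype.ofFinite Q
  refine ⟨J, Fintype.ofFinite J, L, hLc, hLo,
    fun i => isCharacter_indOn (hTH _) ((hl i.1).cls i.2) ((hl i.1).char i.2), ?_, ?_⟩
  · -- fullness
    intro x hx
    choose b hbR hb0 hb using fun q : Q => exists_projector hint hθ hKM hθM hFM (rep q)
    have hQf : ∀ q, Finite (H ⧸ (T q).subgroupOf H) := fun q => inferInstance
    let hQ : ∀ q, Fintype (H ⧸ (T q).subgroupOf H) := fun q => Fintype.ofFinite _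
    let s : ∀ q, H ⧸ (T q).subgroupOf H → Γ := fun q a => ((a.out : H) : Γ)
    have hsH : ∀ q a, s q a ∈ H := fun q a => (a.out : H).2
    let X : ∀ q, (H ⧸ (T q).subgroupOf H) → (H ⧸ (T q).subgroupOf H) → ι q → Γ → ℂ :=
      fun q a c i t => x ⟨q, i⟩ (s q a * t * (s q c)⁻¹)
    have hX : ∀ q a c i τ, ∑ t, X q a c i t * l q i (t * τ) =
        ∑ g, x ⟨q, i⟩ g * l q i ((s q a)⁻¹ * g * (s q c * τ)) := by
      intro q a c i τ
      refine Fintype.sum_equiv ((Equiv.mulLeft (s q a)).trans (Equiv.mulRight (s q c)⁻¹)) _ _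
        fun t => ?_
      simp only [X, Equiv.trans_apply, Equiv.coe_mulLeft, Equiv.coe_mulRight]
      congr 2
      group
    have hXR : ∀ q a c i, ∀ τ ∈ T q, ∑ t, X q a c i t * l q i (t * τ) ∈ R := by
      intro q a c i τ hτ
      rw [hX]
      have e : ∀ g, l q i ((s q a)⁻¹ * g * (s q c * τ)) =
          ∑ j, b q j * L ⟨q, i⟩ (g * (s q c * τ * j * (s q a)⁻¹)) := by
        intro g
        have h := hproj ⟨q, i⟩ q ((s q a)⁻¹ * g * (s q c * τ))
        rw [if_pos rfl, ← hb q _ (hLo ⟨q, i⟩)] at h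
        rw [← h]
        refine Finset.sum_congr rfl fun j _ => ?_
        by_cases hj : j ∈ M
        · congr 1
          rw [show j * ((s q a)⁻¹ * g * (s q c * τ)) = (j * (s q a)⁻¹) * (g * (s q c * τ)) by group,
            (hLc ⟨q, i⟩).mul_comm' (H.mul_mem (hMH hj) (H.inv_mem (hsH q a))) _]
          group
        · rw [hb0 q j hj, zero_mul, zero_mul]
      simp only [e, Finset.mul_sum]
      rw [Finset.sum_comm]
      refine R.sum_mem fun j _ => ?_
      by_cases hj : j ∈ M
      · simp only [← mul_assoc (x ⟨q, i⟩ _), mul_comm (x ⟨q, i⟩ _) (b q j), mul_assoc (b q j),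
          ← Finset.mul_sum]
        exact R.mul_mem (hbR q j) (hx ⟨q, i⟩ _ (H.mul_mem (H.mul_mem (H.mul_mem (hsH q c)
          (hTH q hτ)) (hMH hj)) (H.inv_mem (hsH q a))))
      · simp [hb0 q j hj]
    choose Y hYR hY0 hY using fun q a c => (hl q).full (X q a c) (hXR q a c)
    let Idx := (q : Q) × ((H ⧸ (T q).subgroupOf H) × (H ⧸ (T q).subgroupOf H) × Γ × Γ)
    let gi : Idx → Γ := fun z =>
      s z.1 z.2.1 * z.2.2.2.1 * z.2.2.2.2 * (s z.1 z.2.2.1)⁻¹
    let ci : Idx → ℂ := fun z => Y z.1 z.2.1 z.2.2.1 z.2.2.2.1 * b z.1 z.2.2.2.2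
    refine ⟨push gi ci, push_mem _ _ R fun z => R.mul_mem (hYR _ _ _ _) (hbR _ _),
      push_eq_zero _ _ H fun z => ?_, fun i h hh => ?_⟩
    · obtain ⟨q, a, c, t, j⟩ := z
      by_cases ht : t ∈ T q
      · by_cases hj : j ∈ M
        · exact Or.inl (H.mul_mem (H.mul_mem (H.mul_mem (hsH q a) (hTH q ht)) (hMH hj))
            (H.inv_mem (hsH q c)))
        · exact Or.inr (by simp [ci, hb0 q j hj])
      · exact Or.inr (by simp [ci, hY0 q a c t ht])
    obtain ⟨q₀, i⟩ := i
    rw [sum_push, Fintype.sum_sigma]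
    simp only [Fintype.sum_prod_type, gi, ci]
    have hterm : ∀ q a c t,
        ∑ j, Y q a c t * b q j * L ⟨q₀, i⟩ (s q a * t * j * (s q c)⁻¹ * h) =
          Y q a c t * (if q₀ = q then l q₀ i ((s q c)⁻¹ * h * (s q a * t)) else 0) := by
      intro q a c t
      by_cases ht : t ∈ T q
      · rw [← hproj ⟨q₀, i⟩ q ((s q c)⁻¹ * h * (s q a * t)), ← hb q _ (hLo ⟨q₀, i⟩), Finset.mul_sum]
        refine Finset.sum_congr rfl fun j _ => ?_
        rw [show s q a * t * j * (s q c)⁻¹ * h = (s q a * t) * (j * ((s q c)⁻¹ * h)) by group,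
          (hLc ⟨q₀, i⟩).mul_comm' (H.mul_mem (hsH q a) (hTH q ht)) _, mul_assoc]
        group
      · simp [hY0 q a c t ht]
    simp only [hterm]
    rw [Finset.sum_eq_single q₀]
    swap
    · intro q _ hq
      simp [Ne.symm hq]
    swap
    · simp
    simp only [if_true]
    have hlc := (hl q₀).cls i
    conv_rhs =>
      enter [2, g]
      rw [show L ⟨q₀, i⟩ (g * h) = indOn (T q₀) H (l q₀ i) (g * h) from rfl,
        indOn_eq_sum (hTH q₀) hlc, Finset.mul_sum]
    rw [Finset.sum_comm (f := fun g a => x ⟨q₀, i⟩ g * _)]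
    refine Finset.sum_congr rfl fun a _ => ?_
    let c₀ : H ⧸ (T q₀).subgroupOf H :=
      ((⟨h * s q₀ a, H.mul_mem hh (hsH q₀ a)⟩ : H) : H ⧸ (T q₀).subgroupOf H)
    have hc₀ : ∀ c, (s q₀ c)⁻¹ * h * s q₀ a ∈ T q₀ ↔ c = c₀ := by
      intro c
      conv_rhs => rw [← QuotientGroup.out_eq' c, QuotientGroup.eq, Subgroup.mem_subgroupOf]
      simp [s, mul_assoc]
    rw [Finset.sum_eq_single c₀]
    · have hw := (hc₀ c₀).2 rfl
      rw [Finset.sum_congr rfl fun t _ => show Y q₀ a c₀ t *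
          l q₀ i ((s q₀ c₀)⁻¹ * h * (s q₀ a * t)) =
          Y q₀ a c₀ t * l q₀ i (t * ((s q₀ c₀)⁻¹ * h * s q₀ a)) by
        rw [← mul_assoc ((s q₀ c₀)⁻¹ * h), hlc.mul_comm' hw t],
        hY q₀ a c₀ i _ hw, hX]
      refine Finset.sum_congr rfl fun g _ => ?_
      congr 2
      simp only [s]
      group
    · intro c _ hc
      refine Finset.sum_eq_zero fun t _ => ?_
      by_cases ht : t ∈ T q₀
      · rw [hlc.1, mul_zero]
        intro h'
        refine hc ((hc₀ c).1 ?_)
        have := (T q₀).mul_mem h' ((T q₀).inv_mem ht)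
        simpa [mul_assoc] using this
      · rw [hY0 q₀ a c t ht, zero_mul]
    · simp
  · -- detection
    intro D hDc hDθ hDreg hD
    have hzero : ∀ q x, proj M (rep q).fn D x = 0 := by
      intro q
      set ϕ := (rep q).fn with hϕdef
      have hϕ : IrrOn M ϕ := (rep q).irrOn
      let E : Γ → ℂ := fun x => if x ∈ T q then proj M ϕ D x else 0
      have hE : E = 0 := by
        refine (hl q).detect E ⟨fun x hx => if_neg hx, fun t ht x => ?_⟩ (fun x => ?_)
          (fun x hx => ?_) fun i => ?_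
        · have hiff : t * x * t⁻¹ ∈ T q ↔ x ∈ T q := by
            rw [(T q).mul_mem_cancel_right ((T q).inv_mem ht), (T q).mul_mem_cancel_left ht]
          simp only [E, hiff]
          split_ifs
          · rw [← proj_classOn_conj hϕ hDc hMn ht.1, ht.2]
          · rfl
        · have := Fintype.ofFinite M
          rw [proj_eq]
          by_cases hx : x ∈ T q
          · simp only [E, hϕdef, (T q).mul_mem_cancel_left (hMT q _), if_pos hx]
            rw [← hϕdef, ← OverOn.proj_proj hϕ D x, proj_eq]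
            exact congrArg _ (Finset.sum_congr rfl fun m _ => by
              rw [if_pos ((T q).mul_mem (hMT q m.2) hx)])
          · simp only [E, if_neg hx]
            rw [Finset.sum_eq_zero fun m _ => ?_, mul_zero]
            rw [if_neg fun h' => hx (((T q).mul_mem_cancel_left (hMT q m.2)).1 h'), mul_zero]
        · simp only [E] at hx
          by_cases hxT : x ∈ T q
          · rw [if_pos hxT, proj_eq_univ M hϕ.1] at hx
            obtain ⟨m, -, hm⟩ := Finset.exists_ne_zero_of_sum_ne_zero (right_ne_zero_of_mul hx)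
            have hmM : m ∈ M := by
              by_contra h'
              exact left_ne_zero_of_mul hm (hϕ.1 _ fun h'' => h' (by simpa using M.inv_mem h''))
            exact reg_coset (hMn x (hTH q hxT)) hmM ((hDreg _ (right_ne_zero_of_mul hm)).mono hKM)
          · exact absurd (if_neg hxT) hx
        · have hlc := (hl q).cls i
          have h1 : ∀ x, E x * l q i x⁻¹ = proj M ϕ D x * l q i x⁻¹ := by
            intro x
            by_cases hxT : x ∈ T q
            · simp [E, hxT]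
            · simp [hlc.1 x⁻¹ fun h' => hxT (by simpa using (T q).inv_mem h')]
          have h2 := hD ⟨q, i⟩
          simp only [L, sum_mul_indOn hDc] at h2
          have hne : (Nat.card H : ℂ) / (Nat.card (T q) : ℂ) ≠ 0 :=
            div_ne_zero (Nat.cast_ne_zero.2 Nat.card_pos.ne') (Nat.cast_ne_zero.2 Nat.card_pos.ne')
          rw [Finset.sum_congr rfl fun x _ => h1 x, sum_proj_mul hϕ.1 (hMT q) hlc,
            Finset.sum_congr rfl fun x _ => by rw [(hl q).over i x⁻¹]]
          exact (mul_eq_zero.1 h2).resolve_left hne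
      intro x
      by_cases hxT : x ∈ T q
      · have := congrFun hE x
        simpa [E, hxT] using this
      by_cases hxH : x ∈ H
      · have hϕ' : IrrOn M (conjF x⁻¹ ϕ) := hϕ.conjF (hMn x⁻¹ (H.inv_mem hxH))
        have hne : conjF x⁻¹ ϕ ≠ ϕ := fun h' =>
          hxT (by simpa using (T q).inv_mem (⟨H.inv_mem hxH, h'⟩ : x⁻¹ ∈ stab H ϕ))
        rw [← OverOn.proj_proj hϕ D x]
        have h0 := proj_proj hϕ' hϕ D x
        rw [if_neg hne] at h0
        rw [← h0]
        simp only [proj_eq_univ M hϕ.1, proj_eq_univ M hϕ'.1, conjF_one_val, Finset.mul_sum]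
        conv_lhs => rw [Finset.sum_comm]
        refine Fintype.sum_equiv (MulAut.conj x).toEquiv _ _ fun j => ?_
        refine Finset.sum_congr rfl fun i _ => ?_
        simp only [MulEquiv.toEquiv_eq_coe, EquivLike.coe_coe, MulAut.conj_apply]
        by_cases hj : j ∈ M
        · rw [show conjF x⁻¹ ϕ (x * j * x⁻¹)⁻¹ = ϕ j⁻¹ by simp only [conjF]; group,
            hDc.mul_comm' (hMH hj), show i * (x * j * x⁻¹ * x) = i * x * j by group]
          ring
        · rw [show conjF x⁻¹ ϕ (x * j * x⁻¹)⁻¹ = ϕ j⁻¹ by simp only [conjF]; group,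
            hϕ.1 j⁻¹ fun h' => hj (by simpa using M.inv_mem h')]
          ring
      · rw [proj_eq_univ M hϕ.1, Finset.sum_eq_zero fun m _ => ?_, mul_zero]
        by_cases hm : m ∈ M
        · rw [hDc.1 _ fun h' => hxH ((H.mul_mem_cancel_left (hMH hm)).1 h'), mul_zero]
        · rw [hϕ.1 m⁻¹ fun h' => hm (by simpa using M.inv_mem h'), zero_mul]
    funext x
    rw [← sum_proj_eq hθ hKM hθM hDθ x]
    refine Finset.sum_eq_zero fun χ _ => ?_
    obtain ⟨u, hu, hu'⟩ : ∃ u ∈ H, conjF u (rep (Quotient.mk S χ)).fn = χ.fn :=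
      Quotient.exact (Quotient.out_eq (Quotient.mk S χ))
    rw [← hu', proj_classOn_conj (rep _).irrOn hDc hMn hu, hzero]

end CfsgLib.RegLift
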