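import Cfsg.Agent.Lib.Char.Complete
import Cfsg.Agent.Lib.Char.Integral
import Cfsg.Agent.Lib.SmallDegree.IrrRestrict

/-!
# Orthogonality for irreducible characters and characters irreducible on a subgroup
-/

set_option autoImplicit false

namespace CfsgLib.RegLift

open Cfsg
open scoped ComplexConjugate

universe u

variable {G : Type u} [Group G] [Fintype G]

theorem sum_inv_mul_irr {χ ψ : G → ℂ} (hχ : IsIrrCharacter G χ) (hψ : IsIrrCharacter G ψ) (c : G)
    [Decidable (χ = ψ)] :
    ∑ g, χ g⁻¹ * ψ (g * c) = if χ = ψ then (Nat.card G : ℂ) / χ 1 * ψ c else 0 := by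
  obtain ⟨n, ρ, hρ, rfl⟩ := id hψ
  haveI := hρ
  have hcl : IsClassFunction G (fun g => χ g⁻¹) := fun g h => by
    show χ (h * g * h⁻¹)⁻¹ = χ g⁻¹
    rw [show (h * g * h⁻¹)⁻¹ = h * g⁻¹ * h⁻¹ by group,
      Char.IsIrrCharacter.isClassFunction hχ g⁻¹ h]
  have h1 := congrArg (fun T => LinearMap.trace ℂ (Fin n → ℂ) (T * ρ c))
    (Char.opOfFun_irreducible ρ hcl)
  simp only [Char.opOfFun, Finset.sum_mul, smul_mul_assoc, ← map_mul, map_sum, map_smul,
    smul_eq_mul, Module.finrank_fin_fun] at h1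
  rw [show (LinearMap.id : Module.End ℂ (Fin n → ℂ)) * ρ c = ρ c from one_mul _] at h1
  have hin : ∑ g, χ g⁻¹ * ρ.character g = (Nat.card G : ℂ) * classInner ρ.character χ := by
    rw [classInner, ← mul_assoc, mul_inv_cancel₀ (Nat.cast_ne_zero.2 Nat.card_pos.ne'), one_mul]
    exact Finset.sum_congr rfl fun g _ => by
      rw [Char.IsIrrCharacter.apply_inv hχ, mul_comm]
  show ∑ g, χ g⁻¹ * LinearMap.trace ℂ _ (ρ (g * c)) = _
  rw [h1, hin]
  split_ifs with h
  · subst h
    rw [Char.classInner_irr_self hψ, mul_one, ρ.char_one, Module.finrank_fin_fun]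
    rfl
  · rw [Char.classInner_irr_of_ne hψ hχ (Ne.symm h)]
    simp

variable (K : Subgroup G) [Fintype K] {χ : G → ℂ}

theorem irreducible_res {n : ℕ} (ρ : Representation ℂ G (Fin n → ℂ))
    (hres : IsIrrCharacter K (fun k : K => ρ.character k)) :
    Representation.IsIrreducible (ρ.comp K.subtype : Representation ℂ K (Fin n → ℂ)) := by
  refine SmallDegree.isIrreducible_of_classInner_self _ ?_
  have : Representation.character (ρ.comp K.subtype : Representation ℂ K (Fin n → ℂ)) =
      fun k : K => ρ.character k := rfl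
  rw [this]
  exact Char.classInner_irr_self hres

theorem avg_scalar {n : ℕ} (ρ : Representation ℂ G (Fin n → ℂ))
    (hres : IsIrrCharacter K (fun k : K => ρ.character k)) (A : Module.End ℂ (Fin n → ℂ)) :
    (n : ℂ) • ∑ k : K, ρ (k : G) * A * ρ (k : G)⁻¹ =
      ((Nat.card K : ℂ) * LinearMap.trace ℂ _ A) • 1 := by
  let σ : Representation ℂ K (Fin n → ℂ) := ρ.comp K.subtype
  haveI : σ.IsIrreducible := irreducible_res K ρ hres
  set T : Module.End ℂ (Fin n → ℂ) := ∑ k : K, ρ (k : G) * A * ρ (k : G)⁻¹ with hT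
  have hcomm : ∀ j : K, T ∘ₗ σ j = σ j ∘ₗ T := by
    intro j
    show T * ρ (j : G) = ρ (j : G) * T
    rw [hT, Finset.sum_mul, Finset.mul_sum]
    refine Fintype.sum_equiv (Equiv.mulLeft j⁻¹) _ _ fun k => ?_
    simp only [Equiv.coe_mulLeft, Subgroup.coe_mul, Subgroup.coe_inv, mul_inv_rev, inv_inv]
    have h : ∀ a b : G, ρ (a * b) = ρ a * ρ b := map_mul ρ
    rw [mul_assoc, ← h, ← mul_assoc, ← mul_assoc, ← h, ← mul_assoc, mul_inv_cancel, one_mul]
  let T' : Representation.IntertwiningMap σ σ := ⟨T, hcomm⟩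
  obtain ⟨c, hc⟩ :=
    Representation.IsIrreducible.algebraMap_intertwiningMap_bijective_of_isAlgClosed.2 T'
  have hc' : T = c • (1 : Module.End ℂ (Fin n → ℂ)) := by
    have h2 := congrArg (fun F : Representation.IntertwiningMap σ σ => F.toLinearMap) hc
    simp only [Algebra.algebraMap_eq_smul_one] at h2
    exact h2.symm
  have htr : LinearMap.trace ℂ _ T = (Nat.card K : ℂ) * LinearMap.trace ℂ _ A := by
    rw [hT, map_sum, Finset.sum_congr rfl (g := fun _ => LinearMap.trace ℂ _ A) fun k _ => ?_,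
      Finset.sum_const, Finset.card_univ, Nat.card_eq_fintype_card, nsmul_eq_mul]
    rw [LinearMap.trace_mul_comm, ← mul_assoc, ← map_mul, inv_mul_cancel, map_one, one_mul]
  rw [hc', map_smul, LinearMap.trace_one, Module.finrank_fin_fun, smul_eq_mul] at htr
  rw [hc', smul_smul, mul_comm, htr]

/-- For a character irreducible on `K`, averaging over conjugation by `K` splits. -/
theorem sum_conj_res (hχ : IsIrrCharacter G χ) (hres : IsIrrCharacter K (fun k : K => χ k))
    (a b : G) :
    χ 1 * ∑ k : K, χ (a * ((k : G) * b * (k : G)⁻¹)) = (Nat.card K : ℂ) * χ a * χ b := by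
  obtain ⟨n, ρ, hρ, rfl⟩ := hχ
  have h := congrArg (fun T => LinearMap.trace ℂ (Fin n → ℂ) (ρ a * T))
    (avg_scalar K ρ hres (ρ b))
  simp only [Finset.mul_sum, mul_smul_comm, map_smul, map_sum, smul_eq_mul, mul_one] at h
  rw [ρ.char_one, Module.finrank_fin_fun, Finset.mul_sum]
  refine Eq.trans ?_ (h.trans ?_)
  · refine Finset.sum_congr rfl fun k _ => ?_
    simp only [Representation.character, map_mul]
  · simp only [Representation.character]
    ring

/-- For a character irreducible on `K`, the sum over `K` of a product is a single value. -/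
theorem sum_split_res (hχ : IsIrrCharacter G χ) (hres : IsIrrCharacter K (fun k : K => χ k))
    (a b : G) :
    χ 1 * ∑ k : K, χ (a * (k : G)) * χ ((k : G)⁻¹ * b) = (Nat.card K : ℂ) * χ (a * b) := by
  classical
  obtain ⟨n, ρ, hρ, rfl⟩ := hχ
  let Φ : Module.End ℂ (Fin n → ℂ) →ₐ[ℂ] Matrix (Fin n) (Fin n) ℂ :=
    LinearMap.toMatrixAlgEquiv'.toAlgHom
  have htr : ∀ A, LinearMap.trace ℂ (Fin n → ℂ) A = (Φ A).trace := fun A => by
    rw [LinearMap.trace_eq_matrix_trace ℂ (Pi.basisFun ℂ (Fin n))]
    rfl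
  let E : Fin n → Fin n → Module.End ℂ (Fin n → ℂ) := fun i j =>
    LinearMap.toMatrixAlgEquiv'.symm (Matrix.single i j 1)
  have hΦE : ∀ i j, Φ (E i j) = Matrix.single i j 1 := fun i j =>
    LinearMap.toMatrixAlgEquiv'.apply_symm_apply _
  have hprod : ∀ (A B : Module.End ℂ (Fin n → ℂ)),
      LinearMap.trace ℂ _ A * LinearMap.trace ℂ _ B = ∑ i, ∑ j, (Φ (A * E i j * B)) i j := by
    intro A B
    rw [htr, htr, Matrix.trace, Matrix.trace, Finset.sum_mul_sum]
    refine Finset.sum_congr rfl fun i _ => Finset.sum_congr rfl fun j _ => ?_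
    rw [map_mul, map_mul, hΦE, Matrix.mul_apply, Finset.sum_eq_single j]
    · simp
    · intro k _ hk
      simp [Matrix.mul_apply, Matrix.single, hk.symm]
    · simp
  have hn : (ρ.character 1 : ℂ) = n := by rw [ρ.char_one, Module.finrank_fin_fun]
  rw [hn, Finset.mul_sum]
  calc ∑ k : K, (n : ℂ) * (ρ.character (a * (k : G)) * ρ.character ((k : G)⁻¹ * b))
      = ∑ i, ∑ j, (Φ (ρ a * ((n : ℂ) • ∑ k : K, ρ (k : G) * E i j * ρ (k : G)⁻¹) * ρ b)) i j := by
        simp only [Representation.character, map_mul, hprod, Finset.mul_sum, Finset.sum_mul,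
          mul_smul_comm, smul_mul_assoc, map_sum, map_smul, Matrix.sum_apply, Matrix.smul_apply,
          smul_eq_mul, Finset.smul_sum]
        rw [Finset.sum_comm]
        refine Finset.sum_congr rfl fun i _ => ?_
        rw [Finset.sum_comm]
        refine Finset.sum_congr rfl fun j _ => Finset.sum_congr rfl fun k _ => ?_
        simp only [mul_assoc]
    _ = ∑ i, (Nat.card K : ℂ) * (Φ (ρ a * ρ b)) i i := by
        simp only [avg_scalar K ρ hres, mul_smul_comm, smul_mul_assoc, mul_one, map_smul,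
          Matrix.smul_apply, smul_eq_mul]
        refine Finset.sum_congr rfl fun i _ => ?_
        rw [Finset.sum_eq_single i]
        · rw [htr, hΦE]
          simp
        · intro j _ hj
          rw [htr, hΦE]
          simp [Matrix.trace, Matrix.single, hj, Ne.symm hj]
        · simp
    _ = (Nat.card K : ℂ) * ρ.character (a * b) := by
        rw [← Finset.mul_sum]
        simp only [Representation.character, map_mul, htr]
        rfl

end CfsgLib.RegLift
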