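import Cfsg.Agent.Lib.RegLift.Orbit
import Cfsg.Agent.Lib.CharDeep.Extend
import Cfsg.Agent.Lib.OddChar.Coprime

/-!
# Lifting sets across a factor of `p`-power order
-/

set_option autoImplicit false

namespace CfsgLib.RegLift

open Cfsg

universe u v

variable {Γ : Type u} [Group Γ] [Fintype Γ]

omit [Fintype Γ] in
theorem detChar_comp {G G' : Type*} [Group G] [Finite G] [Group G'] [Finite G'] {χ : G → ℂ}
    (hχ : IsIrrCharacter G χ) (f : G' →* G) (hf : Function.Surjective f) (x : G') :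
    detChar (χ ∘ f) x = detChar χ (f x) := by
  obtain ⟨n, ρ, hρ, rfl⟩ := hχ
  haveI := hρ
  have : Representation.IsIrreducible (ρ.comp f : Representation ℂ G' (Fin n → ℂ)) :=
    CharTwist.irreducible_comp_surjective ρ f hf
  rw [show ρ.character ∘ f =
      Representation.character (ρ.comp f : Representation ℂ G' (Fin n → ℂ)) from rfl,
    CharDeep.Cover.detChar_eq, CharDeep.Cover.detChar_eq]
  rfl

/-- The determinant is trivial on `p`-elements. -/
def DetGood (p : ℕ) (M : Subgroup Γ) (ψ : Γ → ℂ) : Prop :=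
  ∀ m : M, (∃ j, orderOf m = p ^ j) → detChar (fun m : M => ψ m) m = 1

/-- An extension of `θ` across a `p`-group with determinant trivial on `p`-elements is unique. -/
theorem ext_unique {p : ℕ} [hp : Fact p.Prime] {M K : Subgroup Γ} {θ ψ ψ' : Γ → ℂ}
    (hKM : K ≤ M) (hKn : Normalizes M K) {k : ℕ} (hk : K.relIndex M = p ^ k) (hθ : IrrOn K θ)
    {d : ℕ} (hd : θ 1 = d) (hpd : ¬ p ∣ d) (hψ : IrrOn M ψ) (hψ' : IrrOn M ψ')
    (he : ∀ x ∈ K, ψ x = θ x) (he' : ∀ x ∈ K, ψ' x = θ x) (hg : DetGood p M ψ)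
    (hg' : DetGood p M ψ') : ψ' = ψ := by
  classical
  have := Fintype.ofFinite M
  let N : Subgroup M := K.subgroupOf M
  have := Fintype.ofFinite N
  haveI hN : N.Normal := ⟨fun n hn m => Subgroup.mem_subgroupOf.2 (by
    simpa using hKn m m.2 n (Subgroup.mem_subgroupOf.1 hn))⟩
  have hN' : IsIrrCharacter N (fun n : N => ψ ((n : M) : Γ)) := by
    rw [show (fun n : N => ψ ((n : M) : Γ)) = fun n : N => θ ((n : M) : Γ) from
      funext fun n => he _ (Subgroup.mem_subgroupOf.1 n.2)]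
    exact CharTwist.isIrrCharacter_comp_equiv hθ.2 (Subgroup.subgroupOfEquivOfLe hKM)
  obtain ⟨l, hlN, hl⟩ := CharDeep.Gal.exists_linear_of_res_eq N hψ.2 hψ'.2 hN'
    fun n => (he' _ (Subgroup.mem_subgroupOf.1 n.2)).trans (he _ (Subgroup.mem_subgroupOf.1 n.2)).symm
  have hψ1 : (fun m : M => ψ m) 1 = (d : ℂ) := by
    show ψ ((1 : M) : Γ) = _
    rw [Subgroup.coe_one, he 1 K.one_mem, hd]
  have hdet := CharDeep.Extend.detChar_twist hψ.2 l d hψ1
  rw [← hl] at hdet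
  have hidx : l ^ p ^ k = 1 := by
    have h := CharDeep.Lin.pow_index_eq_one_of_trivial l hlN
    rwa [show N.index = p ^ k from hk] at h
  have hl1 : ∀ m : M, l m = 1 := by
    intro m
    have hord : 0 < orderOf m := orderOf_pos m
    obtain ⟨a, r, hr, har⟩ := Nat.exists_eq_pow_mul_and_not_dvd hord.ne' p hp.out.ne_one
    have hmr : ∃ j, orderOf (m ^ r) = p ^ j := by
      refine ((Nat.dvd_prime_pow hp.out).1 (?_ : orderOf (m ^ r) ∣ p ^ a)).imp fun j h => h.2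
      refine orderOf_dvd_of_pow_eq_one ?_
      rw [← pow_mul, mul_comm, ← har, pow_orderOf_eq_one]
    have h1 : (l m ^ d) ^ r = 1 := by
      have h := congrFun hdet (m ^ r)
      rw [hg' _ hmr, hg _ hmr, mul_one] at h
      rw [← pow_mul, mul_comm, pow_mul, ← map_pow]
      exact Units.ext (by push_cast; exact h.symm)
    have h2 : l m ^ p ^ k = 1 := by rw [← MonoidHom.pow_apply, hidx, MonoidHom.one_apply]
    have h3 : l m ^ d = 1 := by
      refine orderOf_eq_one_iff.1 (Nat.eq_one_of_dvd_coprimes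
        ((hp.out.coprime_iff_not_dvd.2 hr).pow_left k) (orderOf_dvd_of_pow_eq_one ?_)
        (orderOf_dvd_of_pow_eq_one h1))
      rw [← pow_mul, mul_comm, pow_mul, h2, one_pow]
    exact orderOf_eq_one_iff.1 (Nat.eq_one_of_dvd_coprimes
      ((hp.out.coprime_iff_not_dvd.2 hpd).pow_left k) (orderOf_dvd_of_pow_eq_one h2)
      (orderOf_dvd_of_pow_eq_one h3))
  refine hψ'.ext hψ fun m => ?_
  have := congrFun hl m
  simp only [hl1, Units.val_one, one_mul] at this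
  exact this

/-- The invariant extension across a `p`-factor. -/
theorem exists_ext {p : ℕ} [hp : Fact p.Prime] {H M K : Subgroup Γ} {θ : Γ → ℂ} (hθ : IrrOn K θ)
    (hθH : ClassOn H θ) (hKM : K ≤ M) (hMH : M ≤ H) (hKn : Normalizes H K)
    (hMn : Normalizes H M) {k : ℕ} (hk : K.relIndex M = p ^ k) {d : ℕ} (hd : θ 1 = d)
    (hpd : ¬ p ∣ d) (hdet : DetGood p K θ) :
    ∃ η : Γ → ℂ, IrrOn M η ∧ ClassOn H η ∧ (∀ x ∈ K, η x = θ x) ∧ DetGood p M η := by
  classical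
  have := Fintype.ofFinite M
  let N : Subgroup M := K.subgroupOf M
  have := Fintype.ofFinite N
  haveI hN : N.Normal := ⟨fun n hn m => Subgroup.mem_subgroupOf.2 (by
    simpa using hKn m (hMH m.2) n (Subgroup.mem_subgroupOf.1 hn))⟩
  let e : N ≃* K := Subgroup.subgroupOfEquivOfLe hKM
  let θ' : N → ℂ := fun n => θ ((n : M) : Γ)
  have hθ' : IsIrrCharacter N θ' := CharTwist.isIrrCharacter_comp_equiv hθ.2 e
  have hinv : ∀ (g : M) (n : N), θ' ⟨g * n * g⁻¹, hN.conj_mem (n : M) n.2 g⟩ = θ' n := fun g n =>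
    hθH.2 g (hMH g.2) _
  have hd' : θ' 1 = d := hd
  have hidx : N.index = p ^ k := hk
  obtain ⟨δ, hδ⟩ := CharDeep.Extend.exists_det_hom N θ' hθ'
  have hδinv : ∀ (g : M) (n : N), δ ⟨g * n * g⁻¹, hN.conj_mem (n : M) n.2 g⟩ = δ n := fun g n =>
    Units.ext (by
      have h := CharDeep.Extend.det_invariant N θ' hinv hθ' g n
      rw [hδ] at h
      exact h)
  have hδp : ∀ n : N, (∃ j, orderOf n = p ^ j) → δ n = 1 := by
    intro n hn
    refine Units.ext ?_
    rw [Units.val_one, ← congrFun hδ n, show θ' = (fun x : K => θ x) ∘ e.toMonoidHom from rfl,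
      detChar_comp hθ.2 _ e.surjective]
    refine hdet _ ?_
    rw [MulEquiv.coe_toMonoidHom, MulEquiv.orderOf_eq]
    exact hn
  have hord : ¬ p ∣ orderOf δ := by
    intro hdvd
    obtain ⟨a, r, hr, har⟩ := Nat.exists_eq_pow_mul_and_not_dvd
      (Nat.card_pos (α := N)).ne' p hp.out.ne_one
    refine hr (hdvd.trans (orderOf_dvd_of_pow_eq_one (MonoidHom.ext fun n => ?_)))
    rw [MonoidHom.pow_apply, MonoidHom.one_apply, ← map_pow]
    refine hδp _ (((Nat.dvd_prime_pow hp.out).1 (?_ : orderOf (n ^ r) ∣ p ^ a)).imp fun j h => h.2)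
    refine orderOf_dvd_of_pow_eq_one ?_
    rw [← pow_mul, mul_comm, ← har, pow_card_eq_one']
  have hcopδ : Nat.Coprime N.index (orderOf δ) := by
    rw [hidx]; exact (hp.out.coprime_iff_not_dvd.2 hord).pow_left k
  obtain ⟨μ, hμ, hμo, -⟩ := CharDeep.Lin.exists_ext_coprime δ hδinv hcopδ
  have hμN : ∀ n : N, (μ n : ℂ) = detChar θ' n := fun n => by rw [hμ n, hδ]
  have hcop : Nat.Coprime N.index d := by
    rw [hidx]; exact (hp.out.coprime_iff_not_dvd.2 hpd).pow_left k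
  obtain ⟨χ₀, hχ₀, hχ₀N⟩ := CharDeep.Extend.extends_of_det N θ' hθ' hinv d hd' hcop μ hμN
  obtain ⟨χ, ⟨hχ, hχN, hχd⟩, -⟩ :=
    CharDeep.Extend.existsUnique_det N θ' hθ' d hd' hcop χ₀ hχ₀ hχ₀N μ hμN
  obtain ⟨η, hηdef⟩ : ∃ η, η = Cfsg.extendByZero M χ := ⟨_, rfl⟩
  have hη : IrrOn M η := hηdef ▸ IrrOn.extendByZero M ⟨χ, hχ⟩
  have hηM : (fun m : M => η m) = χ := funext fun m => by
    rw [hηdef]; exact Char.extendByZero_coe M χ m
  have hηK : ∀ x ∈ K, η x = θ x := fun x hx => by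
    rw [show η x = χ ⟨x, hKM hx⟩ from congrFun hηM ⟨x, hKM hx⟩]
    exact hχN ⟨⟨x, hKM hx⟩, Subgroup.mem_subgroupOf.2 hx⟩
  have hηg : DetGood p M η := by
    intro m ⟨j, hj⟩
    rw [hηM, hχd]
    have h1 : μ m ^ p ^ j = 1 := by rw [← hj, ← map_pow, pow_orderOf_eq_one, map_one]
    have h2 : μ m ^ orderOf δ = 1 := by
      rw [← hμo, ← MonoidHom.pow_apply, pow_orderOf_eq_one, MonoidHom.one_apply]
    have : μ m = 1 := orderOf_eq_one_iff.1 (Nat.eq_one_of_dvd_coprimes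
      ((hp.out.coprime_iff_not_dvd.2 hord).pow_left j) (orderOf_dvd_of_pow_eq_one h1)
      (orderOf_dvd_of_pow_eq_one h2))
    simp [this]
  refine ⟨η, hη, ⟨fun x hx => hη.1 x fun h => hx (hMH h), fun u hu x => ?_⟩, hηK, hηg⟩
  have hu' : IrrOn M (conjF u η) := hη.conjF (hMn u hu)
  have huK : ∀ x ∈ K, conjF u η x = θ x := fun x hx => by
    rw [conjF, hηK _ (hKn u hu x hx), hθH.2 u hu x]
  have hug : DetGood p M (conjF u η) := by
    intro m hm
    let f : M →* M :=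
      { toFun := fun m => ⟨u * m * u⁻¹, hMn u hu m m.2⟩
        map_one' := Subtype.ext (by simp)
        map_mul' := fun a b => Subtype.ext (by simp [mul_assoc]) }
    have hf : Function.Injective f := fun a b h => by
      have := congrArg Subtype.val h
      exact Subtype.ext (mul_left_cancel (mul_right_cancel this))
    rw [show (fun m : M => conjF u η m) = (fun m : M => η m) ∘ f from rfl,
      detChar_comp hη.2 f (Finite.injective_iff_surjective.1 hf)]
    refine hηg _ ?_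
    rw [orderOf_injective f hf]
    exact hm
  exact congrFun (ext_unique hKM (fun m hm => hKn m (hMH hm)) hk hθ hd hpd hη hu' hηK huK hηg hug) x

/-- Fullness passes to an extension. -/
theorem full_ext {R : Subring ℂ} {M K : Subgroup Γ} {θ η : Γ → ℂ} (hθ : IrrOn K θ) (hη : IrrOn M η)
    (hKM : K ≤ M) (hext : ∀ x ∈ K, η x = θ x) (hF : Full R K fun _ : PUnit.{v + 1} => θ) :
    Full R M fun _ : PUnit.{v + 1} => η := by
  classical
  intro x hx
  have := Fintype.ofFinite K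
  have hres : IsIrrCharacter K (fun k : K => η k) := by
    rw [show (fun k : K => η k) = fun k : K => θ k from funext fun k => hext k k.2]
    exact hθ.2
  have h1 : η 1 = θ 1 := hext 1 K.one_mem
  have h0 : (Nat.card K : ℂ) ≠ 0 := Nat.cast_ne_zero.2 Nat.card_pos.ne'
  have hsplit : ∀ g b, b ∈ M → η (g * b) =
      θ 1 / (Nat.card K : ℂ) * ∑ k : K, η (g * (k : Γ)) * η ((k : Γ)⁻¹ * b) := by
    intro g b hb
    by_cases hg : g ∈ M
    · rw [← h1, div_mul_eq_mul_div, sum_split_irrOn hη hKM hres hg hb, mul_div_cancel_left₀ _ h0]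
    · rw [hη.1 _ fun h => hg ((M.mul_mem_cancel_right hb).1 h),
        Finset.sum_eq_zero fun k _ => ?_, mul_zero]
      rw [hη.1 _ fun h => hg ((M.mul_mem_cancel_right (hKM k.2)).1 h), zero_mul]
  let Φ : Γ → ℂ := fun k => ∑ g, x PUnit.unit g * η (g * k)
  let x' : Γ → ℂ := fun g => if g ∈ K then θ 1 / (Nat.card K : ℂ) * Φ g⁻¹ else 0
  have hx' : ∀ k ∈ K, ∑ g, x' g * θ (g * k) = Φ k := by
    intro k hk
    rw [← sum_subgroup_eq K (fun g => x' g * θ (g * k)) fun g hg => by simp [x', if_neg hg],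
      ← Fintype.sum_equiv (Equiv.inv K) _ _ (fun _ => rfl)]
    simp only [Equiv.inv_apply, Subgroup.coe_inv, x', inv_mem_iff, SetLike.coe_mem, if_true,
      inv_inv, Φ, Finset.mul_sum, Finset.sum_mul]
    rw [Finset.sum_comm]
    refine Finset.sum_congr rfl fun g _ => ?_
    rw [hsplit g k (hKM hk), Finset.mul_sum, Finset.mul_sum]
    refine Finset.sum_congr rfl fun j _ => ?_
    rw [hext _ (K.mul_mem (K.inv_mem j.2) hk)]
    ring
  obtain ⟨y, hyR, hy0, hy⟩ := hF (fun _ => x') fun _ k hk => by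
    rw [hx' k hk]
    exact hx _ k (hKM hk)
  refine ⟨y, hyR, fun g hg => hy0 g fun h => hg (hKM h), fun i h hh => ?_⟩
  obtain rfl : i = PUnit.unit := rfl
  have key : ∀ z : Γ → ℂ, ∑ g, z g * η (g * h) =
      ∑ k : K, θ 1 / (Nat.card K : ℂ) * η ((k : Γ)⁻¹ * h) * ∑ g, z g * η (g * (k : Γ)) := by
    intro z
    simp only [Finset.mul_sum]
    rw [Finset.sum_comm]
    refine Finset.sum_congr rfl fun g _ => ?_
    rw [hsplit g h hh, Finset.mul_sum, Finset.mul_sum]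
    exact Finset.sum_congr rfl fun k _ => by ring
  rw [key, key]
  refine Finset.sum_congr rfl fun k _ => ?_
  congr 1
  rw [Finset.sum_congr rfl fun g _ => show y g * η (g * (k : Γ)) = y g * θ (g * (k : Γ)) by
    by_cases hg : g ∈ K
    · rw [hext _ (K.mul_mem hg k.2)]
    · rw [hy0 g hg, zero_mul, zero_mul]]
  exact (hy PUnit.unit k k.2).trans (hx' k k.2)

omit [Fintype Γ] in
/-- Elements regular modulo `K` in one coset of a `p`-factor are conjugate under it. -/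
theorem exists_conj_of_reg [Finite Γ] {p : ℕ} [hp : Fact p.Prime] {H M K : Subgroup Γ}
    (hKM : K ≤ M) (hMH : M ≤ H) (hKn : Normalizes H K) (hMn : Normalizes H M) {k : ℕ}
    (hk : K.relIndex M = p ^ k) {x m : Γ} (hx : x ∈ H) (hm : m ∈ M) (hrx : Reg p K x)
    (hrm : Reg p K (m * x)) : ∃ u ∈ M, u⁻¹ * (m * x) * u * x⁻¹ ∈ K := by
  let K' : Subgroup H := K.subgroupOf H
  haveI hK' : K'.Normal := ⟨fun n hn g => Subgroup.mem_subgroupOf.2 (by
    simpa using hKn g g.2 n (Subgroup.mem_subgroupOf.1 hn))⟩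
  haveI hM' : (M.subgroupOf H).Normal := ⟨fun n hn g => Subgroup.mem_subgroupOf.2 (by
    simpa using hMn g g.2 n (Subgroup.mem_subgroupOf.1 hn))⟩
  let q := QuotientGroup.mk' K'
  let P : Subgroup (H ⧸ K') := (M.subgroupOf H).map q
  haveI hNM : (K.subgroupOf M).Normal := ⟨fun n hn g => Subgroup.mem_subgroupOf.2 (by
    simpa using hKn g (hMH g.2) n (Subgroup.mem_subgroupOf.1 hn))⟩
  have hP : IsPGroup p P := by
    rintro ⟨y, hy⟩
    obtain ⟨a, ha, rfl⟩ := hy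
    refine ⟨k, Subtype.ext ?_⟩
    have ha' : (a : Γ) ∈ M := Subgroup.mem_subgroupOf.1 ha
    have h := (K.subgroupOf M).pow_index_mem ⟨(a : Γ), ha'⟩
    rw [show (K.subgroupOf M).index = p ^ k from hk, Subgroup.mem_subgroupOf] at h
    rw [SubgroupClass.coe_pow, Subgroup.coe_one, ← map_pow]
    refine (QuotientGroup.eq_one_iff _).2 (Subgroup.mem_subgroupOf.2 ?_)
    simpa using h
  obtain ⟨j, hj⟩ := IsPGroup.iff_card.1 hP
  have hreg : ∀ y : H, Reg p K y → ∃ n, ¬ p ∣ n ∧ q y ^ n = 1 := by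
    rintro y ⟨n, -, hn, hy⟩
    refine ⟨n, hn, ?_⟩
    rw [← map_pow]
    exact (QuotientGroup.eq_one_iff _).2 (Subgroup.mem_subgroupOf.2 (by simpa using hy))
  obtain ⟨n₁, hn₁, hg₁⟩ := hreg ⟨x, hx⟩ hrx
  obtain ⟨n₂, hn₂, hg₂⟩ := hreg (⟨m, hMH hm⟩ * ⟨x, hx⟩) hrm
  set g := q ⟨x, hx⟩
  have hcop : Nat.Coprime (orderOf g) (Nat.card P) := by
    rw [hj]
    refine Nat.Coprime.coprime_dvd_left (orderOf_dvd_of_pow_eq_one hg₁) ?_
    exact (Nat.Coprime.pow_right j ((hp.out.coprime_iff_not_dvd.2 hn₁).symm))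
  have hgn : g ∈ Subgroup.normalizer (P : Set (H ⧸ K')) := by
    haveI hPn := Subgroup.Normal.map hM' q (QuotientGroup.mk'_surjective K')
    refine Subgroup.mem_normalizer_iff.2 fun y => ⟨fun hy => hPn.conj_mem y hy g, fun hy => ?_⟩
    have h := hPn.conj_mem _ hy g⁻¹
    rwa [show g⁻¹ * (g * y * g⁻¹) * g⁻¹⁻¹ = y by group] at h
  obtain ⟨z, hz, c, hc, hcg, hzc⟩ := OddChar.exists_conj_centralizer_coset P g hgn hcop
    (q ⟨m, hMH hm⟩) ⟨_, Subgroup.mem_subgroupOf.2 hm, rfl⟩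
  have hc1 : c = 1 := by
    have h1 : c ^ (n₁ * n₂) = 1 := by
      have h2 : (c * g) ^ (n₁ * n₂) = 1 := by
        rw [← hzc, conj_pow, ← map_mul, mul_comm n₁, pow_mul, hg₂, one_pow]
        group
      rwa [(show Commute c g from hcg).mul_pow, pow_mul g, hg₁, one_pow, mul_one] at h2
    have h2 : c ^ p ^ j = 1 := by
      have h := pow_card_eq_one' (x := (⟨c, hc⟩ : P))
      rw [hj] at h
      exact congrArg Subtype.val h
    exact orderOf_eq_one_iff.1 (Nat.eq_one_of_dvd_coprimes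
      (Nat.Coprime.pow_left j ((hp.out.coprime_iff_not_dvd.2 fun h =>
        (hp.out.dvd_mul.1 h).elim hn₁ hn₂)))
      (orderOf_dvd_of_pow_eq_one h2) (orderOf_dvd_of_pow_eq_one h1))
  rw [hc1, one_mul] at hzc
  obtain ⟨u, hu, rfl⟩ := hz
  refine ⟨(u : Γ)⁻¹, M.inv_mem (Subgroup.mem_subgroupOf.1 hu), ?_⟩
  have h : q (u * (⟨m, hMH hm⟩ * ⟨x, hx⟩) * u⁻¹ * (⟨x, hx⟩ : H)⁻¹) = 1 := by
    rw [map_mul, map_mul, map_mul, map_mul, map_inv, map_inv, hzc, mul_inv_cancel]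
  have := Subgroup.mem_subgroupOf.1 ((QuotientGroup.eq_one_iff _).1 h)
  simpa using this

/-- Detection passes across a `p`-factor. -/
theorem detect_ext {p : ℕ} [hp : Fact p.Prime] {H M K : Subgroup Γ} {θ η : Γ → ℂ} {ι : Type v}
    {l : ι → Γ → ℂ} (hθ : IrrOn K θ) (hη : IrrOn M η) (hηH : ClassOn H η) (hKM : K ≤ M)
    (hMH : M ≤ H) (hKn : Normalizes H K) (hMn : Normalizes H M) {k : ℕ}
    (hk : K.relIndex M = p ^ k) (hext : ∀ y ∈ K, η y = θ y) (hlc : ∀ i, ClassOn H (l i))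
    (hlo : ∀ i, OverOn M η (l i)) (hdet : Detect p H M η l) : Detect p H K θ l := by
  classical
  intro D hDc hDθ hDreg hD
  have := Fintype.ofFinite M
  have := Fintype.ofFinite K
  have hη' : ∀ u ∈ H, conjF u η = η := fun u hu => funext fun y => hηH.2 u hu y
  have hzero : proj M η D = 0 := by
    refine hdet _ ⟨fun x hx => ?_, fun u hu x => ?_⟩ (OverOn.proj_proj hη D) (fun x hx => ?_)
      fun i => ?_
    · rw [proj_eq, Finset.sum_eq_zero fun m _ => ?_, mul_zero]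
      rw [hDc.1 _ fun h => hx ((H.mul_mem_cancel_left (hMH m.2)).1 h), mul_zero]
    · rw [← proj_classOn_conj hη hDc hMn hu, hη' u hu]
    · rw [proj_eq] at hx
      obtain ⟨m, -, hm⟩ := Finset.exists_ne_zero_of_sum_ne_zero (right_ne_zero_of_mul hx)
      have hne := right_ne_zero_of_mul hm
      have hxH : x ∈ H := by
        by_contra h
        exact hne (hDc.1 _ fun h' => h ((H.mul_mem_cancel_left (hMH m.2)).1 h'))
      exact reg_coset (hMn x hxH) m.2 ((hDreg _ hne).mono hKM)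
    · rw [sum_proj_mul hη.1 hMH (hlc i), Finset.sum_congr rfl fun x _ => by rw [hlo i x⁻¹]]
      exact hD i
  funext x
  show D x = 0
  by_contra hDx
  have hx : x ∈ H := by
    by_contra h
    exact hDx (hDc.1 x h)
  -- an extension to the subgroup generated by `M` and `x`
  let H' : Subgroup Γ := M ⊔ Subgroup.zpowers x
  have hMH' : M ≤ H' := le_sup_left
  have hxH' : x ∈ H' := Subgroup.mem_sup_right (Subgroup.mem_zpowers x)
  have hH'H : H' ≤ H := sup_le hMH (Subgroup.zpowers_le.2 hx)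
  have := Fintype.ofFinite H'
  let N : Subgroup H' := M.subgroupOf H'
  haveI hN : N.Normal := ⟨fun n hn g => Subgroup.mem_subgroupOf.2 (by
    simpa using hMn g (hH'H g.2) n (Subgroup.mem_subgroupOf.1 hn))⟩
  have := Fintype.ofFinite N
  let η' : N → ℂ := fun n => η ((n : H') : Γ)
  have hη'' : IsIrrCharacter N η' :=
    CharTwist.isIrrCharacter_comp_equiv hη.2 (Subgroup.subgroupOfEquivOfLe hMH')
  have hcyc : IsCyclic (H' ⧸ N) := by
    refine isCyclic_iff_exists_zpowers_eq_top.2 ⟨((⟨x, hxH'⟩ : H') : H' ⧸ N), eq_top_iff.2 ?_⟩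
    let S : Subgroup Γ := ((Subgroup.zpowers ((⟨x, hxH'⟩ : H') : H' ⧸ N)).comap
      (QuotientGroup.mk' N)).map H'.subtype
    have hS : H' ≤ S := by
      refine sup_le (fun m hm => ⟨⟨m, hMH' hm⟩, ?_, rfl⟩)
        (Subgroup.zpowers_le.2 ⟨⟨x, hxH'⟩, Subgroup.mem_zpowers _, rfl⟩)
      simp only [Subgroup.coe_comap, Set.mem_preimage, QuotientGroup.mk'_apply, SetLike.mem_coe]
      rw [(QuotientGroup.eq_one_iff _).2 (Subgroup.mem_subgroupOf.2 hm : (⟨m, hMH' hm⟩ : H') ∈ N)]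
      exact Subgroup.one_mem _
    intro y _
    obtain ⟨a, rfl⟩ := QuotientGroup.mk_surjective y
    obtain ⟨b, hb, hba⟩ := hS a.2
    rw [← Subtype.ext hba]
    exact hb
  obtain ⟨χ, hχ, hχN⟩ := CharDeep.Extend.extends_of_cyclic N η' hη''
    (fun g n => hηH.2 g (hH'H g.2) _) hcyc
  obtain ⟨ζ, hζdef⟩ : ∃ ζ, ζ = Cfsg.extendByZero H' χ := ⟨_, rfl⟩
  have hζ : IrrOn H' ζ := hζdef ▸ IrrOn.extendByZero H' ⟨χ, hχ⟩
  have hζM : ∀ m ∈ M, ζ m = η m := fun m hm => by
    rw [hζdef, show m = (((⟨m, hMH' hm⟩ : H')) : Γ) from rfl, Char.extendByZero_coe]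
    exact hχN ⟨⟨m, hMH' hm⟩, Subgroup.mem_subgroupOf.2 hm⟩
  have hζc := isClassFunction_of_irr hζ
  have hζK : ∀ j : K, ζ j = θ j := fun j => (hζM j (hKM j.2)).trans (hext j j.2)
  have hKH : K ≤ H := hKM.trans hMH
  obtain ⟨C, hC⟩ : ∃ C, ∀ j ∈ K, D (j * x) = C * ζ (j * x) :=
    ⟨_, fun j hj => over_coset hθ hζ (hKM.trans hMH') hζK (hKn x hx) hxH'
      (fun u hu => hDc.2 u (hKH hu)) hDθ hj⟩
  have hCx : C ≠ 0 ∧ ζ x ≠ 0 := by
    have h := hC 1 K.one_mem
    rw [one_mul] at h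
    exact mul_ne_zero_iff.1 (h ▸ hDx)
  let μ : M × K → Γ := fun z => z.1 * ((z.2 : Γ) * x) * (z.1 : Γ)⁻¹ * x⁻¹
  have hμM : ∀ z, μ z ∈ M := fun z => by
    rw [show μ z = z.1 * z.2 * (x * (z.1 : Γ)⁻¹ * x⁻¹) by simp only [μ]; group]
    exact M.mul_mem (M.mul_mem z.1.2 (hKM z.2.2)) (hMn x hx _ (M.inv_mem z.1.2))
  let W : Finset Γ := Finset.univ.image μ
  have hval : ∀ i ∈ W, D (i * x) = C * ζ (i * x) := by
    intro i hi
    obtain ⟨z, -, rfl⟩ := Finset.mem_image.1 hi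
    simp only [μ, inv_mul_cancel_right]
    rw [hDc.2 _ (hMH z.1.2), hζc.2 _ (hMH' z.1.2), hC _ z.2.2]
  have hout : ∀ i, i ∉ W → η i⁻¹ * D (i * x) = 0 := by
    intro i hi
    by_cases hiM : i ∈ M
    · by_contra h
      obtain ⟨u, hu, hk'⟩ := exists_conj_of_reg hKM hMH hKn hMn hk hx hiM
        (hDreg x hDx) (hDreg _ (right_ne_zero_of_mul h))
      refine hi (Finset.mem_image.2 ⟨(⟨u, hu⟩, ⟨_, hk'⟩), Finset.mem_univ _, ?_⟩)
      simp only [μ]
      group
    · rw [hη.1 i⁻¹ fun h => hiM (by simpa using M.inv_mem h), zero_mul]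
  let F : Γ → ℂ := fun i => η i⁻¹ * ζ (i * x)
  have hsumW : ∑ i ∈ W, F i = 0 := by
    have h := congrFun hzero x
    rw [Pi.zero_apply, proj_eq_univ M hη.1, ← Finset.sum_subset (Finset.subset_univ W)
      fun i _ hi => hout i hi] at h
    have h' := (mul_eq_zero.1 h).resolve_left
      (div_ne_zero hη.one_ne_zero (Nat.cast_ne_zero.2 Nat.card_pos.ne'))
    rw [Finset.sum_congr rfl fun i hi => show η i⁻¹ * D (i * x) = C * F i by
      rw [hval i hi]; simp only [F]; ring, ← Finset.mul_sum] at h'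
    exact (mul_eq_zero.1 h').resolve_left hCx.1
  let V : Finset M := Finset.univ.filter fun v => (v : Γ)⁻¹ * x * v * x⁻¹ ∈ K
  have hfib : ∀ i ∈ W, (Finset.univ.filter fun z => μ z = i).card = V.card := by
    intro i hi
    obtain ⟨⟨u₀, k₀⟩, -, rfl⟩ := Finset.mem_image.1 hi
    have hmem : ∀ v : M, v ∈ V → (v : Γ)⁻¹ * k₀ * x * v * x⁻¹ ∈ K := by
      intro v hv
      have h1 := (Finset.mem_filter.1 hv).2
      have h2 := hKn _ (hMH (M.inv_mem v.2)) _ k₀.2
      have := K.mul_mem h2 h1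
      rw [inv_inv] at this
      convert this using 1
      group
    refine Finset.card_bij' (fun z _ => u₀⁻¹ * z.1)
      (fun v hv => (u₀ * v, ⟨_, hmem v hv⟩)) ?_ ?_ ?_ ?_
    · intro z hz
      have hz' : μ z = μ (u₀, k₀) := (Finset.mem_filter.1 hz).2
      simp only [μ, mul_left_inj] at hz'
      refine Finset.mem_filter.2 ⟨Finset.mem_univ _, ?_⟩
      set v : Γ := (u₀ : Γ)⁻¹ * z.1 with hv
      have h1 : (k₀ : Γ) * x = v * ((z.2 : Γ) * x) * v⁻¹ := by
        rw [hv, mul_inv_rev, inv_inv,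
          show (u₀ : Γ)⁻¹ * z.1 * ((z.2 : Γ) * x) * ((z.1 : Γ)⁻¹ * u₀) =
            (u₀ : Γ)⁻¹ * ((z.1 : Γ) * ((z.2 : Γ) * x) * (z.1 : Γ)⁻¹) * u₀ by group, hz']
        group
      have h2 : v⁻¹ * x * v * x⁻¹ = (v⁻¹ * (k₀ : Γ) * v)⁻¹ * z.2 := by
        rw [show (z.2 : Γ) = v⁻¹ * ((k₀ : Γ) * x) * v * x⁻¹ by rw [h1]; group]
        group
      show ((u₀⁻¹ * z.1 : M) : Γ)⁻¹ * x * ((u₀⁻¹ * z.1 : M) : Γ) * x⁻¹ ∈ K
      rw [Subgroup.coe_mul, Subgroup.coe_inv, ← hv, h2]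
      refine K.mul_mem (K.inv_mem ?_) z.2.2
      have h3 := hKn v⁻¹ (H.inv_mem (H.mul_mem (H.inv_mem (hMH u₀.2)) (hMH z.1.2))) _ k₀.2
      rwa [inv_inv] at h3
    · intro v hv
      refine Finset.mem_filter.2 ⟨Finset.mem_univ _, ?_⟩
      simp only [μ, Subgroup.coe_mul]
      group
    · intro z hz
      have hz' : μ z = μ (u₀, k₀) := (Finset.mem_filter.1 hz).2
      simp only [μ, mul_left_inj] at hz'
      refine Prod.ext (by simp) (Subtype.ext ?_)
      show ((u₀⁻¹ * z.1 : M) : Γ)⁻¹ * k₀ * x * ((u₀⁻¹ * z.1 : M) : Γ) * x⁻¹ = z.2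
      simp only [Subgroup.coe_mul, Subgroup.coe_inv, mul_inv_rev, inv_inv]
      rw [show (z.1 : Γ)⁻¹ * u₀ * k₀ * x * ((u₀ : Γ)⁻¹ * z.1) * x⁻¹ =
        (z.1 : Γ)⁻¹ * ((u₀ : Γ) * ((k₀ : Γ) * x) * (u₀ : Γ)⁻¹) * z.1 * x⁻¹ by group, ← hz']
      group
    · intro v hv
      simp
  have hpair : ∀ u : M, ζ 1 * ∑ j : K, F (μ (u, j)) = (Nat.card K : ℂ) * ζ x := by
    intro u
    have hres : IsIrrCharacter K (fun j : K => ζ j) := by
      rw [show (fun j : K => ζ j) = fun j : K => θ j from funext hζK]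
      exact hθ.2
    set a : Γ := x * u * x⁻¹ with ha
    have haM : a ∈ M := hMn x hx _ u.2
    have e : ∀ j : K, F (μ (u, j)) = ζ (x * j) * ζ ((j : Γ)⁻¹ * ((u : Γ)⁻¹ * a)) := by
      intro j
      simp only [F]
      rw [← hζM _ (M.inv_mem (hμM (u, j))),
        show (μ (u, j))⁻¹ = a * ((j : Γ)⁻¹ * (u : Γ)⁻¹) by simp only [μ, ha]; group,
        hζc.mul_comm' (hMH' haM), mul_assoc, mul_comm]
      congr 1
      simp only [μ, inv_mul_cancel_right]
      rw [hζc.2 _ (hMH' u.2), hζc.mul_comm' (hMH' (hKM j.2))]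
    rw [Finset.sum_congr rfl fun j _ => e j, sum_split_irrOn hζ (hKM.trans hMH') hres hxH'
      (hMH' (M.mul_mem (M.inv_mem u.2) haM)),
      hζc.mul_comm' hxH', show (u : Γ)⁻¹ * a * x = (u : Γ)⁻¹ * x * (u : Γ)⁻¹⁻¹ by
        simp only [ha]; group, hζc.2 _ (hMH' (M.inv_mem u.2))]
  have htot : ∑ z : M × K, F (μ z) = (V.card : ℂ) * ∑ i ∈ W, F i := by
    rw [← Finset.sum_fiberwise_of_maps_to (t := W)
      fun z _ => Finset.mem_image_of_mem μ (Finset.mem_univ z), Finset.mul_sum]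
    refine Finset.sum_congr rfl fun i hi => ?_
    rw [Finset.sum_congr rfl fun z hz => by rw [(Finset.mem_filter.1 hz).2], Finset.sum_const,
      nsmul_eq_mul, hfib i hi]
  rw [hsumW, mul_zero, Fintype.sum_prod_type] at htot
  have h := congrArg (ζ 1 * ·) htot
  simp only [Finset.mul_sum, mul_zero] at h
  rw [Finset.sum_congr rfl fun u _ => by rw [← Finset.mul_sum, hpair u], Finset.sum_const,
    Finset.card_univ, nsmul_eq_mul] at h
  exact mul_ne_zero (Nat.cast_ne_zero.2 Fintype.card_ne_zero)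
    (mul_ne_zero (Nat.cast_ne_zero.2 Nat.card_pos.ne') hCx.2) h

end CfsgLib.RegLift
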